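import Cfsg.Agent.Lib.Steiner.Basic

/-!
Moments of the intersection numbers of a Steiner system with an arbitrary set of points.
-/

set_option autoImplicit false

namespace CfsgLib.Steiner

open Cfsg

variable {α : Type*} [Fintype α] [DecidableEq α] {t k : ℕ}

/-- The number of blocks meeting `y` in exactly `j` points. -/
def meetNum (F : Finset (Finset α)) (y : Finset α) (j : ℕ) : ℕ :=
  (F.filter fun c => (y ∩ c).card = j).card

theorem setMoment {F : Finset (Finset α)} (hB : IsSteinerSystem t k (F : Set (Finset α)))
    (y : Finset α) {i : ℕ} (hi : i ≤ t) :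
    (∑ j ∈ Finset.range (k + 1), meetNum F y j * j.choose i) * (k - i).choose (t - i)
      = y.card.choose i * (Fintype.card α - i).choose (t - i) := by
  have hfib : ∑ j ∈ Finset.range (k + 1), meetNum F y j * j.choose i
      = ∑ c ∈ F, (y ∩ c).card.choose i := by
    rw [← Finset.sum_fiberwise_of_maps_to (t := Finset.range (k + 1)) (g := fun c => (y ∩ c).card)
      (fun c hc => Finset.mem_range.2 (Nat.lt_succ_of_le ((Finset.card_le_card
        Finset.inter_subset_right).trans_eq (hB.1 c (Finset.mem_coe.2 hc)))))]
    refine Finset.sum_congr rfl fun j _ => ?_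
    rw [Finset.sum_congr rfl fun c hc => by rw [(Finset.mem_filter.1 hc).2], Finset.sum_const,
      smul_eq_mul]
    rfl
  have h1 : ∀ c : Finset α, (y ∩ c).card.choose i
      = ∑ S ∈ y.powersetCard i, if S ⊆ c then 1 else 0 := by
    intro c
    rw [Finset.sum_boole, ← Finset.card_powersetCard, Nat.cast_id]
    congr 1
    ext S
    simp only [Finset.mem_powersetCard, Finset.mem_filter, Finset.subset_inter_iff]
    tauto
  rw [hfib]
  simp only [h1]
  rw [Finset.sum_comm]
  simp only [Finset.sum_boole, Nat.cast_id]
  rw [Finset.sum_mul, Finset.sum_congr rfl fun S hS => by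
    rw [← (Finset.mem_powersetCard.1 hS).2, card_through hB S
      (by rw [(Finset.mem_powersetCard.1 hS).2]; exact hi), (Finset.mem_powersetCard.1 hS).2],
    Finset.sum_const, Finset.card_powersetCard, smul_eq_mul]

omit [Fintype α] in
theorem meetNum_eq_zero {F : Finset (Finset α)} {y : Finset α} {j : ℕ}
    (h : ∀ c ∈ F, (y ∩ c).card ≠ j) : meetNum F y j = 0 :=
  Finset.card_eq_zero.2 (Finset.filter_eq_empty_iff.2 h)

omit [Fintype α] in
theorem meetNum_gt {F : Finset (Finset α)} {y : Finset α} {j : ℕ} (h : y.card < j) :
    meetNum F y j = 0 :=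
  meetNum_eq_zero fun c _ he => by
    have := Finset.card_le_card (Finset.inter_subset_left : y ∩ c ⊆ y)
    omega

end CfsgLib.Steiner
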