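import Cfsg.Agent.Lib.Steiner.Witt12Unique
import Cfsg.Agent.Lib.Steiner.SetMoment
import Cfsg.Agent.Lib.Golay.Simple
import Cfsg.Prelude.Def_Sporadic

/-!
The automorphism groups of the small Steiner systems of Witt, and the uniqueness of S(4,5,11).
-/

set_option autoImplicit false

namespace CfsgLib.Steiner.Witt12

open Cfsg CfsgLib.Golay
open scoped Pointwise

/-- The points of the dodecad of squares. -/
abbrev Dod : Type := {x : GolayPt // x ∈ Spor.squareDodecad}

/-- The hexads cut out on the dodecad by the octads. -/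
def hexads : Set (Finset Dod) :=
  {b | b.card = 6 ∧ ∃ o ∈ octads, b = Finset.subtype (· ∈ Spor.squareDodecad) o}

theorem card_dod : Fintype.card Dod = 12 := by
  rw [Fintype.card_coe]
  exact squareDodecad_mem.2

theorem hexads_steiner : IsSteinerSystem 5 6 hexads := by
  refine ⟨fun b hb => hb.1, fun s hs => ?_⟩
  obtain ⟨o, ⟨ho, hso⟩, huniq⟩ := octads_steiner.2 (s.map (Function.Embedding.subtype _))
    (by rw [Finset.card_map, hs])
  have hsub : s ⊆ Finset.subtype (· ∈ Spor.squareDodecad) o := fun x hx =>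
    Finset.mem_subtype.2 (hso (Finset.mem_map_of_mem (Function.Embedding.subtype _) hx))
  have hcard : (Finset.subtype (· ∈ Spor.squareDodecad) o).card = 6 := by
    have h5 := Finset.card_le_card hsub
    have h := octad_inter_dodecad ho squareDodecad_mem
    rw [← Finset.filter_mem_eq_inter, ← Finset.card_subtype] at h
    omega
  refine ⟨_, ⟨⟨hcard, o, ho, rfl⟩, hsub⟩, ?_⟩
  rintro _ ⟨⟨-, o', ho', rfl⟩, hsub'⟩
  rw [huniq o' ⟨ho', fun x hx => ?_⟩]
  obtain ⟨y, hy, rfl⟩ := Finset.mem_map.1 hx
  exact Finset.mem_subtype.1 (hsub' hy)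

/-- The action of `M12` on the dodecad. -/
def restr12 : Spor.M12 →* Equiv.Perm Dod where
  toFun g := (g : Equiv.Perm GolayPt).subtypePerm fun x => M12_apply_mem g.2 x
  map_one' := Equiv.ext fun _ => rfl
  map_mul' _ _ := Equiv.ext fun _ => rfl

theorem restr12_apply (g : Spor.M12) (x : Dod) :
    ((restr12 g x : Dod) : GolayPt) = (g : Equiv.Perm GolayPt) x := rfl

theorem restr12_mem (g : Spor.M12) : restr12 g ∈ setSystemAut hexads := by
  rw [MulAction.mem_stabilizer_set']
  · rintro _ ⟨hb, o, ho, rfl⟩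
    refine ⟨by rw [Finset.card_smul_finset, hb], (g : Equiv.Perm GolayPt) • o,
      (M24_smul_mem_octads (mem_M12.1 g.2).1).2 ho, ?_⟩
    ext x
    rw [← Finset.inv_smul_mem_iff, Finset.mem_subtype, Finset.mem_subtype,
      ← Finset.inv_smul_mem_iff, Equiv.Perm.smul_def, Equiv.Perm.smul_def]
    have h : ((((restr12 g)⁻¹ x : Dod)) : GolayPt) = (g : Equiv.Perm GolayPt)⁻¹ x := by
      rw [← map_inv]; rfl
    rw [h]
  · exact Set.toFinite _

theorem exists_M12_map {x y : Fin 5 ↪ Dod} :
    ∃! g : Spor.M12, ∀ i, restr12 g (x i) = y i := by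
  obtain ⟨g, ⟨hg, hgm⟩, huniq⟩ := M12_sharp (xs := List.ofFn fun i => ((x i : Dod) : GolayPt))
    (ys := List.ofFn fun i => ((y i : Dod) : GolayPt))
    (List.nodup_ofFn.2 (Subtype.val_injective.comp x.injective))
    (List.nodup_ofFn.2 (Subtype.val_injective.comp y.injective)) (by simp) (by simp)
    (fun z hz => by obtain ⟨i, rfl⟩ := List.mem_ofFn.1 hz; exact (x i).2)
    (fun z hz => by obtain ⟨i, rfl⟩ := List.mem_ofFn.1 hz; exact (y i).2)
  rw [List.map_ofFn] at hgm
  refine ⟨⟨g, hg⟩, fun i => Subtype.ext (congrFun (List.ofFn_inj.1 hgm) i), fun h hh => ?_⟩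
  refine Subtype.ext (huniq h ⟨h.2, ?_⟩)
  rw [List.map_ofFn]
  exact congrArg List.ofFn (funext fun i => by
    rw [Function.comp_apply, ← restr12_apply, hh i])

theorem restr12_bij :
    Function.Bijective (restr12.codRestrict (setSystemAut hexads) restr12_mem) := by
  constructor
  · rw [injective_iff_map_eq_one]
    intro g hg
    refine Subtype.ext (faithful12 _ g.2 fun x hx => ?_)
    rw [← restr12_apply g ⟨x, hx⟩,
      show restr12 g = 1 from congrArg Subtype.val hg]
    rfl
  · intro a
    obtain ⟨s, -, hs⟩ := Finset.exists_subset_card_eq (s := (Finset.univ : Finset Dod)) (n := 5)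
      (by rw [Finset.card_univ, card_dod]; omega)
    let x : Fin 5 ↪ Dod := (s.equivFinOfCardEq hs).symm.toEmbedding.trans
      (Function.Embedding.subtype _)
    obtain ⟨g, hg, -⟩ := exists_M12_map (x := x) (y := x.trans (a : Equiv.Perm Dod).toEmbedding)
    refine ⟨g, Subtype.ext ?_⟩
    have := eq_one_of_five card_dod hexads_steiner
      (mul_mem (inv_mem (restr12_mem g)) a.2) hs (fun z hz => by
        obtain ⟨i, rfl⟩ : ∃ i, x i = z := ⟨s.equivFinOfCardEq hs ⟨z, hz⟩, by simp [x]⟩
        rw [Equiv.Perm.mul_apply, Equiv.Perm.inv_def, Equiv.symm_apply_eq, hg i]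
        rfl)
    exact inv_mul_eq_one.1 this

/-- The automorphism group of the hexads is `M12`. -/
noncomputable def autEquiv : Spor.M12 ≃* setSystemAut hexads :=
  MulEquiv.ofBijective _ restr12_bij

variable {α : Type*} [Fintype α] [DecidableEq α] {A : Set (Finset α)}

omit [Fintype α] in
theorem conj_mem_iff {β : Type*} [DecidableEq β] {A' : Set (Finset β)} (f : α ≃ β)
    (hf : ∀ b, b ∈ A ↔ b.map f.toEmbedding ∈ A') (g : Equiv.Perm α) :
    f.permCongr g ∈ setSystemAut A' ↔ g ∈ setSystemAut A := by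
  have hmap : ∀ b : Finset α, (g • b).map f.toEmbedding = f.permCongr g • b.map f.toEmbedding := by
    intro b
    simp only [Finset.map_eq_image, Finset.smul_finset_def, Finset.image_image]
    exact Finset.image_congr fun x _ => by simp [Equiv.permCongr_apply]
  rw [MulAction.mem_stabilizer_set, MulAction.mem_stabilizer_set]
  constructor
  · intro h b
    rw [hf, hmap, h, hf]
  · intro h b
    obtain ⟨b', rfl⟩ : ∃ b' : Finset α, b'.map f.toEmbedding = b :=
      ⟨b.map f.symm.toEmbedding, by ext p; simp [Finset.mem_map_equiv]⟩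
    rw [← hmap, ← hf, ← hf, h]

/-- A bijection to the dodecad carrying the blocks to the hexads, and the action of `M12`. -/
theorem exists_coord (hα : Fintype.card α = 12) (hA : IsSteinerSystem 5 6 A) :
    ∃ (f : α ≃ Dod) (φ : Spor.M12 ≃* setSystemAut A),
      (∀ b, b ∈ A ↔ b.map f.toEmbedding ∈ hexads) ∧
      ∀ g x, f ((φ g : Equiv.Perm α) x) = restr12 g (f x) := by
  obtain ⟨f, hf⟩ := exists_iso hα card_dod hA hexads_steiner
  let ψ : setSystemAut A ≃* setSystemAut hexads :=
    { toFun := fun g => ⟨f.permCongr g, (conj_mem_iff f hf g).2 g.2⟩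
      invFun := fun h => ⟨f.symm.permCongr h, (conj_mem_iff f hf _).1 (by
        have : f.permCongr (f.symm.permCongr (h : Equiv.Perm Dod)) = h := by
          ext p; simp [Equiv.permCongr_apply]
        rw [this]; exact h.2)⟩
      left_inv := fun g => Subtype.ext (Equiv.ext fun x => by simp [Equiv.permCongr_apply])
      right_inv := fun g => Subtype.ext (Equiv.ext fun x => by simp [Equiv.permCongr_apply])
      map_mul' := fun g h => Subtype.ext (Equiv.ext fun x => by simp [Equiv.permCongr_apply]) }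
  refine ⟨f, autEquiv.trans ψ.symm, hf, fun g x => ?_⟩
  show f (f.symm.permCongr (restr12 g) x) = _
  simp [Equiv.permCongr_apply]

theorem aut_facts (hα : Fintype.card α = 12) (hA : IsSteinerSystem 5 6 A) :
    IsM12 (setSystemAut A) ∧ MulAction.IsMultiplyPretransitive (setSystemAut A) α 5 ∧
      ∀ x : Fin 5 ↪ α, MulAction.stabilizer (setSystemAut A) x = ⊥ := by
  obtain ⟨f, φ, -, hφ⟩ := exists_coord hα hA
  have hs := isSimple_M12
  refine ⟨⟨MulEquiv.isSimpleGroup φ.symm, by rw [← Nat.card_congr φ.toEquiv, card_M12]⟩, ?_, ?_⟩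
  · rw [MulAction.isMultiplyPretransitive_iff]
    intro x y
    obtain ⟨g, hg, -⟩ := exists_M12_map (x := x.trans f.toEmbedding) (y := y.trans f.toEmbedding)
    exact ⟨φ g, DFunLike.ext _ _ fun i => f.injective (by
      show f ((φ g : Equiv.Perm α) (x i)) = _
      rw [hφ]; exact hg i)⟩
  · intro x
    rw [Subgroup.eq_bot_iff_forall]
    intro g hg
    refine Subtype.ext (eq_one_of_five hα hA g.2 (s := Finset.univ.map x) (by simp) ?_)
    intro z hz
    obtain ⟨i, -, rfl⟩ := Finset.mem_map.1 hz
    exact DFunLike.congr_fun (MulAction.mem_stabilizer_iff.1 hg) i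

/-- Any two S(5,6,12), with any chosen points, are carried to one another. -/
theorem exists_iso_point {β : Type*} [Fintype β] [DecidableEq β] {A' : Set (Finset β)}
    (hα : Fintype.card α = 12) (hβ : Fintype.card β = 12) (hA : IsSteinerSystem 5 6 A)
    (hA' : IsSteinerSystem 5 6 A') (p : α) (q : β) :
    ∃ f : α ≃ β, f p = q ∧ ∀ b, b ∈ A ↔ b.map f.toEmbedding ∈ A' := by
  obtain ⟨f, hf⟩ := exists_iso hα hβ hA hA'
  have h5 := (aut_facts hβ hA').2.1
  have h1 : MulAction.IsPretransitive (setSystemAut A') β :=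
    MulAction.isPretransitive_of_is_two_pretransitive
      (h2 := MulAction.isMultiplyPretransitive_of_le' (m := 2) (n := 5) (by norm_num)
        (by rw [ENat.card_eq_coe_fintype_card, hβ]; exact_mod_cast (by norm_num : 5 ≤ 12)))
  obtain ⟨g, hg⟩ := MulAction.exists_smul_eq (setSystemAut A') (f p) q
  refine ⟨f.trans (g : Equiv.Perm β), hg, fun b => ?_⟩
  have : b.map (f.trans (g : Equiv.Perm β)).toEmbedding = (g : Equiv.Perm β) • b.map f.toEmbedding := by
    simp only [Finset.map_eq_image, Finset.smul_finset_def, Finset.image_image]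
    exact Finset.image_congr fun x _ => rfl
  rw [this, MulAction.mem_stabilizer_set.1 g.2, hf]

/-! ### S(4,5,11) -/

section Eleven

variable {B : Set (Finset α)}

/-- The extension of an S(4,5,11): blocks with the new point, and complements of blocks. -/
def ext11 (B : Set (Finset α)) : Set (Finset (Option α)) :=
  Finset.insertNone '' B ∪ (fun b : Finset α => bᶜ.map Function.Embedding.some) '' B

/-- The blocks disjoint from a five-set, together with the set itself if it is a block, number
exactly one. -/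
theorem five_cases (hα : Fintype.card α = 11) (hB : IsSteinerSystem 4 5 B) {s : Finset α}
    (hs : s.card = 5) : (s ∈ B ∧ ∀ b ∈ B, ¬Disjoint s b) ∨
      (s ∉ B ∧ ∃! b, b ∈ B ∧ Disjoint s b) := by
  obtain ⟨F, rfl⟩ := exists_finset B
  have m0 := setMoment hB s (i := 0) (by omega)
  have m1 := setMoment hB s (i := 1) (by omega)
  have m2 := setMoment hB s (i := 2) (by omega)
  have m3 := setMoment hB s (i := 3) (by omega)
  have m4 := setMoment hB s (i := 4) (by omega)
  rw [hα, hs] at m0 m1 m2 m3 m4
  simp only [Finset.sum_range_succ, Finset.sum_range_zero] at m0 m1 m2 m3 m4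
  norm_num [Nat.choose] at m0 m1 m2 m3 m4
  have hdis : ∀ b, (s ∩ b).card = 0 ↔ Disjoint s b := fun b => by
    rw [Finset.card_eq_zero, Finset.disjoint_iff_inter_eq_empty]
  have hfull : ∀ b ∈ F, (s ∩ b).card = 5 → s = b := fun b hb h => by
    have h1 : s ∩ b = s := Finset.eq_of_subset_of_card_le Finset.inter_subset_left (by omega)
    exact Finset.eq_of_subset_of_card_le (Finset.inter_eq_left.1 h1)
      (by rw [hB.1 b (Finset.mem_coe.2 hb), hs])
  by_cases hsB : s ∈ (F : Set (Finset α))
  · refine Or.inl ⟨hsB, fun b hb hd => ?_⟩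
    have h5 : meetNum F s 5 = 1 := by
      rw [meetNum, ← Finset.card_singleton s]
      congr 1
      ext b
      simp only [Finset.mem_filter, Finset.mem_singleton]
      exact ⟨fun h => (hfull b h.1 h.2).symm, fun h => by subst h; exact ⟨hsB, by simp [hs]⟩⟩
    have h0 : 0 < meetNum F s 0 :=
      Finset.card_pos.2 ⟨b, Finset.mem_filter.2 ⟨Finset.mem_coe.1 hb, (hdis b).2 hd⟩⟩
    omega
  · refine Or.inr ⟨hsB, ?_⟩
    have h5 : meetNum F s 5 = 0 := meetNum_eq_zero fun b hb h =>
      hsB (hfull b hb h ▸ Finset.mem_coe.2 hb)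
    have h0 : meetNum F s 0 = 1 := by omega
    obtain ⟨b, hb⟩ := Finset.card_eq_one.1 h0
    have hb' := Finset.mem_filter.1 (hb ▸ Finset.mem_singleton_self b)
    refine ⟨b, ⟨Finset.mem_coe.2 hb'.1, (hdis b).1 hb'.2⟩, fun c hc => ?_⟩
    exact Finset.mem_singleton.1 (hb ▸ Finset.mem_filter.2 ⟨Finset.mem_coe.1 hc.1, (hdis c).2 hc.2⟩)

omit [Fintype α] [DecidableEq α] in
theorem none_not_mem_map (b : Finset α) : none ∉ b.map Function.Embedding.some := by simp

theorem mem_ext11_insertNone (b : Finset α) : Finset.insertNone b ∈ ext11 B ↔ b ∈ B := by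
  refine ⟨?_, fun h => Or.inl ⟨b, h, rfl⟩⟩
  rintro (⟨c, hc, h⟩ | ⟨c, hc, h⟩)
  · rw [Finset.insertNone.injective h] at hc; exact hc
  · exact absurd (Finset.ext_iff.1 h none |>.2 (by simp)) (none_not_mem_map _)

theorem ext11_steiner (hα : Fintype.card α = 11) (hB : IsSteinerSystem 4 5 B) :
    IsSteinerSystem 5 6 (ext11 B) := by
  refine ⟨?_, fun t ht => ?_⟩
  · rintro b (⟨c, hc, rfl⟩ | ⟨c, hc, rfl⟩)
    · rw [Finset.card_insertNone, hB.1 c hc]
    · rw [Finset.card_map, Finset.card_compl, hα, hB.1 c hc]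
  by_cases hn : none ∈ t
  · have hc4 : (Finset.eraseNone t).card = 4 := by
      rw [← Finset.card_map Function.Embedding.some, Finset.map_some_eraseNone,
        Finset.card_erase_of_mem hn, ht]
    obtain ⟨c, ⟨hc, hsc⟩, huniq⟩ := hB.2 _ hc4
    refine ⟨Finset.insertNone c, ⟨Or.inl ⟨c, hc, rfl⟩, fun o ho => ?_⟩, ?_⟩
    · cases o with
      | none => simp
      | some x => simp [hsc (Finset.mem_eraseNone.2 ho)]
    · rintro _ ⟨⟨d, hd, rfl⟩ | ⟨d, hd, rfl⟩, hsub⟩
      · rw [huniq d ⟨hd, fun x hx => by simpa using hsub (Finset.mem_eraseNone.1 hx)⟩]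
      · exact absurd (hsub hn) (none_not_mem_map _)
  · set s := Finset.eraseNone t with hs_def
    have hts : t = s.map Function.Embedding.some := by
      ext o
      cases o with
      | none => simp [hn]
      | some x => simp [hs_def]
    have hs : s.card = 5 := by rw [← Finset.card_map Function.Embedding.some, ← hts, ht]
    have hI : ∀ d : Finset α, t ⊆ Finset.insertNone d ↔ s ⊆ d := fun d => by
      rw [hts]
      exact ⟨fun h x hx => by simpa using h (Finset.mem_map_of_mem Function.Embedding.some hx),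
        fun h o ho => by obtain ⟨x, hx, rfl⟩ := Finset.mem_map.1 ho; simpa using h hx⟩
    have hC : ∀ d : Finset α, t ⊆ dᶜ.map Function.Embedding.some ↔ Disjoint s d := fun d => by
      rw [hts, Finset.map_subset_map]
      exact le_compl_iff_disjoint_right
    rcases five_cases hα hB hs with ⟨hsB, hno⟩ | ⟨hsB, c, ⟨hc, hcd⟩, huniq⟩
    · refine ⟨Finset.insertNone s, ⟨Or.inl ⟨s, hsB, rfl⟩, (hI s).2 subset_rfl⟩, ?_⟩
      rintro _ ⟨⟨d, hd, rfl⟩ | ⟨d, hd, rfl⟩, hsub⟩
      · rw [Finset.eq_of_subset_of_card_le ((hI d).1 hsub) (by rw [hB.1 d hd, hs])]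
      · exact absurd ((hC d).1 hsub) (hno d hd)
    · refine ⟨_, ⟨Or.inr ⟨c, hc, rfl⟩, (hC c).2 hcd⟩, ?_⟩
      rintro _ ⟨⟨d, hd, rfl⟩ | ⟨d, hd, rfl⟩, hsub⟩
      · exact absurd (Finset.eq_of_subset_of_card_le ((hI d).1 hsub) (by rw [hB.1 d hd, hs]) ▸ hd) hsB
      · rw [huniq d ⟨hd, (hC d).1 hsub⟩]

omit [DecidableEq α] in
theorem card_option11 (hα : Fintype.card α = 11) : Fintype.card (Option α) = 12 := by
  rw [Fintype.card_option, hα]

omit [Fintype α] [DecidableEq α] in
theorem exists_restrict1 {β : Type*} (f : Option α ≃ Option β) (h0 : f none = none) :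
    ∃ r : α ≃ β, (∀ x, f (some x) = some (r x)) ∧
      ∀ b : Finset α, (Finset.insertNone b).map f.toEmbedding =
        Finset.insertNone (b.map r.toEmbedding) := by
  have hs : ∀ x, some (Equiv.removeNone f x) = f (some x) := fun x =>
    Equiv.removeNone_some f (Option.ne_none_iff_exists'.1 fun h =>
      Option.some_ne_none x (f.injective (h.trans h0.symm)))
  refine ⟨Equiv.removeNone f, fun x => (hs x).symm, fun b => ?_⟩
  ext o
  rw [Finset.mem_map_equiv]
  cases o with
  | none => simp [show f.symm none = none by rw [Equiv.symm_apply_eq, h0]]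
  | some y =>
    obtain ⟨x, rfl⟩ := (Equiv.removeNone f).surjective y
    rw [show f.symm (some (Equiv.removeNone f x)) = some x by rw [Equiv.symm_apply_eq, hs],
      Finset.some_mem_insertNone, Finset.some_mem_insertNone, Finset.mem_map_equiv,
      Equiv.symm_apply_apply]

theorem iso11 {β : Type*} [Fintype β] [DecidableEq β] {B' : Set (Finset β)}
    (hα : Fintype.card α = 11) (hβ : Fintype.card β = 11) (hB : IsSteinerSystem 4 5 B)
    (hB' : IsSteinerSystem 4 5 B') : SetSystemIso B B' := by
  obtain ⟨f, hf0, hf⟩ := exists_iso_point (card_option11 hα) (card_option11 hβ)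
    (ext11_steiner hα hB) (ext11_steiner hβ hB') none none
  obtain ⟨r, -, hr⟩ := exists_restrict1 f hf0
  have key : ∀ b, b ∈ B ↔ b.map r.toEmbedding ∈ B' := fun b => by
    rw [← mem_ext11_insertNone (B := B), hf, hr, mem_ext11_insertNone]
  refine ⟨r, Set.ext fun b' => ⟨?_, fun hb' => ?_⟩⟩
  · rintro ⟨b, hb, rfl⟩
    show b.image r.toEmbedding ∈ B'
    rw [← Finset.map_eq_image]
    exact (key b).1 hb
  · have hcancel : (b'.map r.symm.toEmbedding).map r.toEmbedding = b' := by
      ext y
      rw [Finset.mem_map_equiv, Finset.mem_map_equiv, Equiv.symm_symm, Equiv.apply_symm_apply]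
    refine ⟨b'.map r.symm.toEmbedding, (key _).2 (hcancel.symm ▸ hb'), ?_⟩
    show (b'.map _).image r.toEmbedding = b'
    rw [← Finset.map_eq_image, hcancel]

theorem iso12 {β : Type*} [Fintype β] [DecidableEq β] {A' : Set (Finset β)}
    (hα : Fintype.card α = 12) (hβ : Fintype.card β = 12) (hA : IsSteinerSystem 5 6 A)
    (hA' : IsSteinerSystem 5 6 A') : SetSystemIso A A' := by
  obtain ⟨r, key⟩ := exists_iso hα hβ hA hA'
  refine ⟨r, Set.ext fun b' => ⟨?_, fun hb' => ?_⟩⟩
  · rintro ⟨b, hb, rfl⟩
    show b.image r.toEmbedding ∈ A'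
    rw [← Finset.map_eq_image]
    exact (key b).1 hb
  · have hcancel : (b'.map r.symm.toEmbedding).map r.toEmbedding = b' := by
      ext y
      rw [Finset.mem_map_equiv, Finset.mem_map_equiv, Equiv.symm_symm, Equiv.apply_symm_apply]
    refine ⟨b'.map r.symm.toEmbedding, (key _).2 (hcancel.symm ▸ hb'), ?_⟩
    show (b'.map _).image r.toEmbedding = b'
    rw [← Finset.map_eq_image, hcancel]

theorem optionCongr_mem (g : Equiv.Perm α) :
    (Equiv.optionCongr g : Equiv.Perm (Option α)) ∈ setSystemAut (ext11 B) ↔ g ∈ setSystemAut B := by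
  have h1 : ∀ b : Finset α, (Equiv.optionCongr g : Equiv.Perm (Option α)) • Finset.insertNone b =
      Finset.insertNone (g • b) := fun b => by
    ext o
    rw [← Finset.inv_smul_mem_iff, Equiv.Perm.smul_def, Equiv.Perm.inv_def]
    cases o with
    | none => simp [show (Equiv.optionCongr g).symm none = none from rfl]
    | some x => simp [← Finset.inv_smul_mem_iff, Equiv.Perm.inv_def, Equiv.Perm.smul_def,
        show (Equiv.optionCongr g).symm (some x) = some (g.symm x) from rfl]
  constructor
  · intro h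
    rw [MulAction.mem_stabilizer_set]
    intro b
    rw [← mem_ext11_insertNone (B := B), ← h1, MulAction.mem_stabilizer_set.1 h, mem_ext11_insertNone]
  · intro h
    rw [MulAction.mem_stabilizer_set']
    · rintro _ (⟨b, hb, rfl⟩ | ⟨b, hb, rfl⟩)
      · exact Or.inl ⟨g • b, (MulAction.mem_stabilizer_set.1 h b).2 hb, (h1 b).symm⟩
      · refine Or.inr ⟨g • b, (MulAction.mem_stabilizer_set.1 h b).2 hb, ?_⟩
        ext o
        rw [← Finset.inv_smul_mem_iff, Equiv.Perm.smul_def, Equiv.Perm.inv_def]
        cases o with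
        | none => simp [show (Equiv.optionCongr g).symm none = none from rfl]
        | some x => simp [← Finset.inv_smul_mem_iff, Equiv.Perm.inv_def, Equiv.Perm.smul_def,
            show (Equiv.optionCongr g).symm (some x) = some (g.symm x) from rfl]
    · exact Set.toFinite _

theorem aut_facts11 (hα : Fintype.card α = 11) (hB : IsSteinerSystem 4 5 B) :
    IsM11 (setSystemAut B) ∧ MulAction.IsMultiplyPretransitive (setSystemAut B) α 4 ∧
      ∀ x : Fin 4 ↪ α, MulAction.stabilizer (setSystemAut B) x = ⊥ := by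
  have hA := ext11_steiner hα hB
  have h12 := card_option11 hα
  obtain ⟨f, φ, hf, hφ⟩ := exists_coord h12 hA
  have h0D : (some 0 : GolayPt) ∈ Spor.squareDodecad := by decide +kernel
  obtain ⟨f', hf'0, hf'⟩ := exists_iso_point h12 card_dod hA hexads_steiner none ⟨some 0, h0D⟩
  have hbase : ∀ h : fixPts Spor.M12 [some 0], ∃ g : setSystemAut B,
      ∀ x, f' (some ((g : Equiv.Perm α) x)) = restr12 ⟨h, h.2.1⟩ (f' (some x)) := by
    intro h
    set π : Equiv.Perm (Option α) := f'.symm.permCongr (restr12 ⟨h, h.2.1⟩) with hπ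
    have hπm : π ∈ setSystemAut (ext11 B) := (conj_mem_iff f' hf' π).1 (by
      have : f'.permCongr π = restr12 ⟨h, h.2.1⟩ := by ext p; simp [hπ, Equiv.permCongr_apply]
      rw [this]; exact restr12_mem _)
    have hπ0 : π none = none := by
      simp only [hπ, Equiv.permCongr_apply, Equiv.symm_symm, hf'0, Equiv.symm_apply_eq]
      exact Subtype.ext (h.2.2 _ (by simp))
    obtain ⟨r, hr, -⟩ := exists_restrict1 π hπ0
    have hπr : π = Equiv.optionCongr r := Equiv.ext fun o => by
      cases o with
      | none => rw [hπ0]; rfl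
      | some x => rw [hr]; rfl
    refine ⟨⟨r, (optionCongr_mem r).1 (hπr ▸ hπm)⟩, fun x => ?_⟩
    show f' (some (r x)) = _
    rw [← hr, hπ]
    simp [Equiv.permCongr_apply]
  choose ψ hψ using hbase
  let Ψ : fixPts Spor.M12 [some 0] →* setSystemAut B := MonoidHom.mk' ψ fun a b =>
    Subtype.ext (Equiv.ext fun x => Option.some_injective α (f'.injective (by
      rw [Subgroup.coe_mul, Equiv.Perm.mul_apply, hψ, hψ, hψ]
      rfl)))
  have hbij : Function.Bijective Ψ := by
    constructor
    · rw [injective_iff_map_eq_one]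
      intro h hh
      refine Subtype.ext (faithful12 _ h.2.1 fun x hx => ?_)
      by_cases hx0 : x = some 0
      · exact h.2.2 x (by simp [hx0])
      obtain ⟨o, ho⟩ := f'.surjective ⟨x, hx⟩
      cases o with
      | none => exact absurd (congrArg Subtype.val (ho.symm.trans hf'0)) hx0
      | some a =>
        have := congrArg Subtype.val (hψ h a)
        rw [show ψ h = 1 from hh, restr12_apply] at this
        simp only [Subgroup.coe_one, Equiv.Perm.one_apply] at this
        rw [ho] at this
        exact this.symm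
    · intro g
      obtain ⟨m, hm⟩ := autEquiv.surjective
        ⟨f'.permCongr (Equiv.optionCongr (g : Equiv.Perm α)),
          (conj_mem_iff f' hf' _).2 ((optionCongr_mem _).2 g.2)⟩
      have hmd : restr12 m = f'.permCongr (Equiv.optionCongr (g : Equiv.Perm α)) :=
        congrArg Subtype.val hm
      have hmem : (m : Equiv.Perm GolayPt) ∈ fixPts Spor.M12 [some 0] := mem_fixPts.2 ⟨m.2, by
        intro z hz
        rw [List.mem_singleton.1 hz, ← restr12_apply m ⟨some 0, h0D⟩, hmd, ← hf'0]
        simp [Equiv.permCongr_apply]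
        rw [hf'0]⟩
      refine ⟨⟨m, hmem⟩, Subtype.ext (Equiv.ext fun x => Option.some_injective α
        (f'.injective ?_))⟩
      show f' (some ((ψ ⟨m, hmem⟩ : Equiv.Perm α) x)) = _
      rw [hψ]
      show restr12 m (f' (some x)) = _
      rw [hmd]
      simp [Equiv.permCongr_apply]
  have hiso := MulEquiv.ofBijective Ψ hbij
  have hs := isSimple_M11
  rw [spor_M11_eq] at hs
  refine ⟨⟨MulEquiv.isSimpleGroup hiso.symm, by
    rw [← Nat.card_congr hiso.toEquiv, ← spor_M11_eq, card_M11]⟩, ?_, ?_⟩
  · rw [MulAction.isMultiplyPretransitive_iff]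
    intro x y
    let lift5 : (Fin 4 ↪ α) → (Fin 5 ↪ Dod) := fun z =>
      ⟨fun i => f' (Fin.cases none (fun j => some (z j)) i), f'.injective.comp (by
        intro a b hab
        cases a using Fin.cases <;> cases b using Fin.cases <;> simp_all)⟩
    obtain ⟨m, hm, -⟩ := exists_M12_map (x := lift5 x) (y := lift5 y)
    have hm0 := hm 0
    simp only [lift5, Function.Embedding.coeFn_mk, Fin.cases_zero, hf'0] at hm0
    have hmem : (m : Equiv.Perm GolayPt) ∈ fixPts Spor.M12 [some 0] := mem_fixPts.2 ⟨m.2, by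
      intro z hz
      rw [List.mem_singleton.1 hz]
      exact congrArg Subtype.val hm0⟩
    refine ⟨ψ ⟨m, hmem⟩, DFunLike.ext _ _ fun j => Option.some_injective α (f'.injective ?_)⟩
    show f' (some ((ψ ⟨m, hmem⟩ : Equiv.Perm α) (x j))) = _
    rw [hψ]
    exact hm j.succ
  · intro x
    rw [Subgroup.eq_bot_iff_forall]
    intro g hg
    have hg' := MulAction.mem_stabilizer_iff.1 hg
    have h1 := eq_one_of_five h12 hA ((optionCongr_mem _).2 g.2)
      (s := Finset.insertNone (Finset.univ.map x)) (by simp) (fun o ho => by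
        cases o with
        | none => rfl
        | some a =>
          obtain ⟨i, -, rfl⟩ := Finset.mem_map.1 (Finset.some_mem_insertNone.1 ho)
          exact congrArg some (DFunLike.congr_fun hg' i))
    refine Subtype.ext (Equiv.ext fun a => Option.some_injective α ?_)
    exact Equiv.congr_fun h1 (some a)

end Eleven

end CfsgLib.Steiner.Witt12
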