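import Cfsg.Prelude.Def_Sporadic_a

/-!
Counting in Steiner systems: blocks through a set, and intersection numbers with a fixed block.
-/

set_option autoImplicit false

namespace CfsgLib.Steiner

open Cfsg

variable {α : Type*} [Fintype α] [DecidableEq α] {t k : ℕ}

omit [Fintype α] in
theorem card_between {S c : Finset α} (hSc : S ⊆ c) (t : ℕ) (hSt : S.card ≤ t) :
    ((c.powersetCard t).filter (S ⊆ ·)).card = (c.card - S.card).choose (t - S.card) := by
  rw [← Finset.card_sdiff_of_subset hSc, ← Finset.card_powersetCard]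
  refine Finset.card_nbij' (fun T => T \ S) (fun T => T ∪ S) ?_ ?_ ?_ ?_
  · intro T hT
    simp only [Finset.mem_coe, Finset.mem_filter, Finset.mem_powersetCard] at hT ⊢
    exact ⟨Finset.sdiff_subset_sdiff hT.1.1 (Finset.Subset.refl S),
      by rw [Finset.card_sdiff_of_subset hT.2, hT.1.2]⟩
  · intro T hT
    simp only [Finset.mem_coe, Finset.mem_filter, Finset.mem_powersetCard] at hT ⊢
    have hd : Disjoint T S := Finset.disjoint_left.2 fun x hx =>
      (Finset.mem_sdiff.1 (hT.1 hx)).2
    exact ⟨⟨Finset.union_subset (hT.1.trans Finset.sdiff_subset) hSc,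
      by rw [Finset.card_union_of_disjoint hd, hT.2]; omega⟩, Finset.subset_union_right⟩
  · intro T hT
    simp only [Finset.mem_coe, Finset.mem_filter] at hT
    exact Finset.sdiff_union_of_subset hT.2
  · intro T hT
    simp only [Finset.mem_coe, Finset.mem_powersetCard] at hT
    exact Finset.union_sdiff_cancel_right
      (Finset.disjoint_left.2 fun x hx => (Finset.mem_sdiff.1 (hT.1 hx)).2)

/-- The number of blocks through a set of at most `t` points, times `C(k - i, t - i)`. -/
theorem card_through {F : Finset (Finset α)} (hB : IsSteinerSystem t k (F : Set (Finset α)))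
    (S : Finset α) (hS : S.card ≤ t) :
    (F.filter (S ⊆ ·)).card * (k - S.card).choose (t - S.card)
      = (Fintype.card α - S.card).choose (t - S.card) := by
  have hdisj : (↑(F.filter (S ⊆ ·)) : Set (Finset α)).PairwiseDisjoint
      fun c => (c.powersetCard t).filter (S ⊆ ·) := by
    intro c hc c' hc' hne
    refine Finset.disjoint_left.2 fun T hT hT' => hne ?_
    simp only [Finset.mem_coe, Finset.mem_filter, Finset.mem_powersetCard] at hc hc' hT hT'
    exact (hB.2 T hT.1.2).unique ⟨Finset.mem_coe.2 hc.1, hT.1.1⟩ ⟨Finset.mem_coe.2 hc'.1, hT'.1.1⟩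
  have hU : (F.filter (S ⊆ ·)).biUnion (fun c => (c.powersetCard t).filter (S ⊆ ·))
      = (Finset.univ.powersetCard t).filter (S ⊆ ·) := by
    ext T
    simp only [Finset.mem_biUnion, Finset.mem_filter, Finset.mem_powersetCard, Finset.subset_univ,
      true_and]
    constructor
    · rintro ⟨c, -, ⟨-, hT⟩, hST⟩; exact ⟨hT, hST⟩
    · rintro ⟨hT, hST⟩
      obtain ⟨c, ⟨hc, hTc⟩, -⟩ := hB.2 T hT
      exact ⟨c, ⟨Finset.mem_coe.1 hc, hST.trans hTc⟩, ⟨hTc, hT⟩, hST⟩
  have h := congrArg Finset.card hU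
  have heach : ∀ c ∈ F.filter (S ⊆ ·), ((c.powersetCard t).filter (S ⊆ ·)).card
      = (k - S.card).choose (t - S.card) := fun c hc => by
    rw [Finset.mem_filter] at hc
    rw [card_between hc.2 t hS, hB.1 c (Finset.mem_coe.2 hc.1)]
  rw [Finset.card_biUnion hdisj, Finset.sum_congr rfl heach,
    card_between (Finset.subset_univ S) t hS, Finset.card_univ, Finset.sum_const, smul_eq_mul] at h
  exact h

omit [Fintype α] in
theorem inter_card_lt {F : Finset (Finset α)} (hB : IsSteinerSystem t k (F : Set (Finset α)))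
    {b c : Finset α} (hb : b ∈ F) (hc : c ∈ F) (hne : b ≠ c) : (b ∩ c).card < t := by
  by_contra h
  push Not at h
  obtain ⟨T, hT, hTc⟩ := Finset.exists_subset_card_eq h
  exact hne ((hB.2 T hTc).unique ⟨Finset.mem_coe.2 hb, hT.trans Finset.inter_subset_left⟩
    ⟨Finset.mem_coe.2 hc, hT.trans Finset.inter_subset_right⟩)

/-- The number of blocks other than `b` meeting `b` in exactly `j` points. -/
def interNum (F : Finset (Finset α)) (b : Finset α) (j : ℕ) : ℕ :=
  ((F.erase b).filter fun c => (b ∩ c).card = j).card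

/-- The moments of the intersection numbers. -/
theorem moment {F : Finset (Finset α)} (hB : IsSteinerSystem t k (F : Set (Finset α)))
    {b : Finset α} (hb : b ∈ F) {i : ℕ} (hi : i ≤ t) :
    (∑ j ∈ Finset.range t, interNum F b j * j.choose i + k.choose i) * (k - i).choose (t - i)
      = k.choose i * (Fintype.card α - i).choose (t - i) := by
  have hfib : ∑ j ∈ Finset.range t, interNum F b j * j.choose i
      = ∑ c ∈ F.erase b, (b ∩ c).card.choose i := by
    rw [← Finset.sum_fiberwise_of_maps_to (t := Finset.range t) (g := fun c => (b ∩ c).card)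
      (fun c hc => Finset.mem_range.2
        (inter_card_lt hB hb (Finset.mem_of_mem_erase hc) (Finset.ne_of_mem_erase hc).symm))]
    refine Finset.sum_congr rfl fun j _ => ?_
    rw [Finset.sum_congr rfl fun c hc => by rw [(Finset.mem_filter.1 hc).2], Finset.sum_const,
      smul_eq_mul]
    rfl
  have hall : ∑ c ∈ F.erase b, (b ∩ c).card.choose i + k.choose i
      = ∑ S ∈ b.powersetCard i, (F.filter (S ⊆ ·)).card := by
    conv_lhs => arg 2; rw [← hB.1 b (Finset.mem_coe.2 hb), ← Finset.inter_self b]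
    rw [Finset.sum_erase_add _ _ hb]
    have h1 : ∀ c : Finset α, (b ∩ c).card.choose i
        = ∑ S ∈ b.powersetCard i, if S ⊆ c then 1 else 0 := by
      intro c
      rw [Finset.sum_boole, ← Finset.card_powersetCard, Nat.cast_id]
      congr 1
      ext S
      simp only [Finset.mem_powersetCard, Finset.mem_filter, Finset.subset_inter_iff]
      tauto
    simp only [h1]
    rw [Finset.sum_comm]
    simp only [Finset.sum_boole, Nat.cast_id]
  rw [hfib, hall, Finset.sum_mul, Finset.sum_congr rfl fun S hS => by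
    rw [← (Finset.mem_powersetCard.1 hS).2, card_through hB S
      (by rw [(Finset.mem_powersetCard.1 hS).2]; exact hi), (Finset.mem_powersetCard.1 hS).2],
    Finset.sum_const, Finset.card_powersetCard, hB.1 b (Finset.mem_coe.2 hb), smul_eq_mul]

omit [Fintype α] in
theorem interNum_pos {F : Finset (Finset α)} {b c : Finset α} (hc : c ∈ F) (hne : b ≠ c) :
    0 < interNum F b (b ∩ c).card :=
  Finset.card_pos.2 ⟨c, Finset.mem_filter.2 ⟨Finset.mem_erase.2 ⟨hne.symm, hc⟩, rfl⟩⟩

omit [DecidableEq α] in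
theorem exists_finset (B : Set (Finset α)) : ∃ F : Finset (Finset α), (F : Set (Finset α)) = B :=
  ⟨(Set.toFinite B).toFinset, Set.Finite.coe_toFinset _⟩

omit [Fintype α] in
theorem ncard_disjoint {F : Finset (Finset α)} {b : Finset α} (hb : b.Nonempty) :
    {c : Finset α | c ∈ (F : Set (Finset α)) ∧ Disjoint b c}.ncard = interNum F b 0 := by
  rw [interNum, ← Set.ncard_coe_finset]
  congr 1
  ext c
  simp only [Set.mem_ofPred_eq, Finset.coe_filter, Finset.mem_coe, Finset.mem_erase,
    Finset.card_eq_zero, Finset.disjoint_iff_inter_eq_empty]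
  refine ⟨fun h => ⟨⟨?_, h.1⟩, h.2⟩, fun h => ⟨h.1.2, h.2⟩⟩
  rintro rfl
  exact hb.ne_empty (by simpa using h.2)

theorem nums_5_8_24 {F : Finset (Finset α)} (hα : Fintype.card α = 24)
    (hB : IsSteinerSystem 5 8 (F : Set (Finset α))) {b : Finset α} (hb : b ∈ F) :
    interNum F b 0 = 30 ∧ interNum F b 1 = 0 ∧ interNum F b 3 = 0 := by
  have h0 := moment hB hb (i := 0) (by norm_num)
  have h1 := moment hB hb (i := 1) (by norm_num)
  have h2 := moment hB hb (i := 2) (by norm_num)
  have h3 := moment hB hb (i := 3) (by norm_num)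
  have h4 := moment hB hb (i := 4) (by norm_num)
  rw [hα] at h0 h1 h2 h3 h4
  norm_num [Finset.sum_range_succ, Nat.choose] at h0 h1 h2 h3 h4
  omega

theorem nums_4_7_23 {F : Finset (Finset α)} (hα : Fintype.card α = 23)
    (hB : IsSteinerSystem 4 7 (F : Set (Finset α))) {b : Finset α} (hb : b ∈ F) :
    interNum F b 0 = 0 ∧ interNum F b 2 = 0 := by
  have h0 := moment hB hb (i := 0) (by norm_num)
  have h1 := moment hB hb (i := 1) (by norm_num)
  have h2 := moment hB hb (i := 2) (by norm_num)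
  have h3 := moment hB hb (i := 3) (by norm_num)
  rw [hα] at h0 h1 h2 h3
  norm_num [Finset.sum_range_succ, Nat.choose] at h0 h1 h2 h3
  omega

theorem nums_3_6_22 {F : Finset (Finset α)} (hα : Fintype.card α = 22)
    (hB : IsSteinerSystem 3 6 (F : Set (Finset α))) {b : Finset α} (hb : b ∈ F) :
    interNum F b 0 = 16 ∧ interNum F b 1 = 0 := by
  have h0 := moment hB hb (i := 0) (by norm_num)
  have h1 := moment hB hb (i := 1) (by norm_num)
  have h2 := moment hB hb (i := 2) (by norm_num)
  rw [hα] at h0 h1 h2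
  norm_num [Finset.sum_range_succ, Nat.choose] at h0 h1 h2
  omega

theorem nums_5_6_12 {F : Finset (Finset α)} (hα : Fintype.card α = 12)
    (hB : IsSteinerSystem 5 6 (F : Set (Finset α))) {b : Finset α} (hb : b ∈ F) :
    interNum F b 0 = 1 ∧ interNum F b 1 = 0 := by
  have h0 := moment hB hb (i := 0) (by norm_num)
  have h1 := moment hB hb (i := 1) (by norm_num)
  have h2 := moment hB hb (i := 2) (by norm_num)
  have h3 := moment hB hb (i := 3) (by norm_num)
  have h4 := moment hB hb (i := 4) (by norm_num)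
  rw [hα] at h0 h1 h2 h3 h4
  norm_num [Finset.sum_range_succ, Nat.choose] at h0 h1 h2 h3 h4
  omega

theorem inter_5_8_24 {B : Set (Finset α)} (hα : Fintype.card α = 24) (hB : IsSteinerSystem 5 8 B)
    {b c : Finset α} (hb : b ∈ B) (hc : c ∈ B) (hne : b ≠ c) :
    (b ∩ c).card = 0 ∨ (b ∩ c).card = 2 ∨ (b ∩ c).card = 4 := by
  obtain ⟨F, rfl⟩ := exists_finset B
  obtain ⟨-, h1, h3⟩ := nums_5_8_24 hα hB hb
  have hlt := inter_card_lt hB hb hc hne
  have hpos := interNum_pos (F := F) hc hne
  by_contra hcon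
  rcases (show (b ∩ c).card = 1 ∨ (b ∩ c).card = 3 by omega) with h | h <;> rw [h] at hpos <;> omega

theorem inter_4_7_23 {B : Set (Finset α)} (hα : Fintype.card α = 23) (hB : IsSteinerSystem 4 7 B)
    {b c : Finset α} (hb : b ∈ B) (hc : c ∈ B) (hne : b ≠ c) :
    (b ∩ c).card = 1 ∨ (b ∩ c).card = 3 := by
  obtain ⟨F, rfl⟩ := exists_finset B
  obtain ⟨h0, h2⟩ := nums_4_7_23 hα hB hb
  have hlt := inter_card_lt hB hb hc hne
  have hpos := interNum_pos (F := F) hc hne
  by_contra hcon
  rcases (show (b ∩ c).card = 0 ∨ (b ∩ c).card = 2 by omega) with h | h <;> rw [h] at hpos <;> omega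

theorem inter_3_6_22 {B : Set (Finset α)} (hα : Fintype.card α = 22) (hB : IsSteinerSystem 3 6 B)
    {b c : Finset α} (hb : b ∈ B) (hc : c ∈ B) (hne : b ≠ c) :
    (b ∩ c).card = 0 ∨ (b ∩ c).card = 2 := by
  obtain ⟨F, rfl⟩ := exists_finset B
  obtain ⟨-, h1⟩ := nums_3_6_22 hα hB hb
  have hlt := inter_card_lt hB hb hc hne
  have hpos := interNum_pos (F := F) hc hne
  by_contra hcon
  rw [show (b ∩ c).card = 1 by omega] at hpos
  omega

theorem disjoint_5_8_24 {B : Set (Finset α)} (hα : Fintype.card α = 24)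
    (hB : IsSteinerSystem 5 8 B) {b : Finset α} (hb : b ∈ B) :
    {c : Finset α | c ∈ B ∧ Disjoint b c}.ncard = 30 := by
  obtain ⟨F, rfl⟩ := exists_finset B
  rw [ncard_disjoint (Finset.card_pos.1 (by rw [hB.1 b hb]; norm_num))]
  exact (nums_5_8_24 hα hB hb).1

theorem compl_5_6_12 {B : Set (Finset α)} (hα : Fintype.card α = 12)
    (hB : IsSteinerSystem 5 6 B) {b : Finset α} (hb : b ∈ B) : bᶜ ∈ B := by
  obtain ⟨F, rfl⟩ := exists_finset B
  obtain ⟨c, hc⟩ := Finset.card_eq_one.1 (nums_5_6_12 hα hB hb).1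
  obtain ⟨hcF, hcc⟩ := Finset.mem_filter.1 (hc ▸ Finset.mem_singleton_self c)
  have hsub : c ⊆ bᶜ := fun x hx => Finset.mem_compl.2 fun hxb =>
    Finset.eq_empty_iff_forall_notMem.1 (Finset.card_eq_zero.1 hcc) x (Finset.mem_inter.2 ⟨hxb, hx⟩)
  have hcF' : c ∈ F := Finset.mem_of_mem_erase hcF
  rw [← Finset.eq_of_subset_of_card_le hsub (by
    rw [Finset.card_compl, hα, hB.1 b hb, hB.1 c (Finset.mem_coe.2 hcF')])]
  exact Finset.mem_coe.2 hcF'

theorem symmDiff_5_8_24 {B : Set (Finset α)} (hα : Fintype.card α = 24)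
    (hB : IsSteinerSystem 5 8 B) {b c : Finset α} (hb : b ∈ B) (hc : c ∈ B)
    (h4 : (b ∩ c).card = 4) : symmDiff b c ∈ B := by
  obtain ⟨F, rfl⟩ := exists_finset B
  have hbc : b ≠ c := fun h => by rw [h, Finset.inter_self, hB.1 c hc] at h4; omega
  set s := symmDiff b c with hs
  have hscard : s.card = 8 := by
    have h1 := Finset.card_sdiff_add_card_inter b c
    have h2 := Finset.card_sdiff_add_card_inter c b
    rw [Finset.inter_comm c b, hB.1 c hc] at h2
    rw [hB.1 b hb] at h1
    rw [hs, show symmDiff b c = (b \ c) ∪ (c \ b) from rfl,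
      Finset.card_union_of_disjoint disjoint_sdiff_sdiff]
    omega
  by_contra hcon
  have hg : ∀ g ∈ F, (g ∩ s).card.choose 5 % 6 = 0 := by
    intro g hgF
    have hgB : g ∈ (F : Set (Finset α)) := Finset.mem_coe.2 hgF
    have hne : g ≠ s := fun h => hcon (h ▸ hgB)
    have hle : (g ∩ s).card < 8 := by
      by_contra hh
      push Not at hh
      have e1 := Finset.eq_of_subset_of_card_le (Finset.inter_subset_left (s₁ := g) (s₂ := s))
        (by rw [hB.1 g hgB]; exact hh)
      have e2 := Finset.eq_of_subset_of_card_le (Finset.inter_subset_right (s₁ := g) (s₂ := s))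
        (by rw [hscard]; exact hh)
      exact hne (e1.symm.trans e2)
    have even_inter : ∀ x : Finset α, x ∈ (F : Set (Finset α)) → (g ∩ x).card % 2 = 0 := fun x hx => by
      rcases eq_or_ne g x with rfl | hgx
      · rw [Finset.inter_self, hB.1 g hx]
      · rcases inter_5_8_24 hα hB hgB hx hgx with h | h | h <;> omega
    have hb2 := even_inter b hb
    have hc2 := even_inter c hc
    have hsplit : (g ∩ s).card + 2 * ((g ∩ b) ∩ (g ∩ c)).card = (g ∩ b).card + (g ∩ c).card := by
      have h1 := Finset.card_sdiff_add_card_inter (g ∩ b) (g ∩ c)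
      have h2 := Finset.card_sdiff_add_card_inter (g ∩ c) (g ∩ b)
      rw [Finset.inter_comm (g ∩ c) (g ∩ b)] at h2
      have h3 : g ∩ s = symmDiff (g ∩ b) (g ∩ c) := by
        ext x; simp only [hs, Finset.mem_inter, Finset.mem_symmDiff]; tauto
      rw [h3, show symmDiff (g ∩ b) (g ∩ c) = ((g ∩ b) \ (g ∩ c)) ∪ ((g ∩ c) \ (g ∩ b)) from rfl,
        Finset.card_union_of_disjoint disjoint_sdiff_sdiff]
      omega
    rcases (show (g ∩ s).card < 5 ∨ (g ∩ s).card = 6 by omega) with h | h
    · rw [Nat.choose_eq_zero_of_lt h]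
    · rw [h]; rfl
  have hsum : ∑ g ∈ F, (g ∩ s).card.choose 5 = 56 := by
    have hdisj : (F : Set (Finset α)).PairwiseDisjoint fun g => (g ∩ s).powersetCard 5 := by
      intro g hgF g' hgF' hne
      refine Finset.disjoint_left.2 fun T hT hT' => hne ?_
      rw [Finset.mem_powersetCard] at hT hT'
      exact (hB.2 T hT.2).unique ⟨hgF, hT.1.trans Finset.inter_subset_left⟩
        ⟨hgF', hT'.1.trans Finset.inter_subset_left⟩
    have hU : F.biUnion (fun g => (g ∩ s).powersetCard 5) = s.powersetCard 5 := by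
      ext T
      simp only [Finset.mem_biUnion, Finset.mem_powersetCard, Finset.subset_inter_iff]
      constructor
      · rintro ⟨g, -, ⟨-, h⟩, hT⟩; exact ⟨h, hT⟩
      · rintro ⟨h, hT⟩
        obtain ⟨g, ⟨hgB, hTg⟩, -⟩ := hB.2 T hT
        exact ⟨g, Finset.mem_coe.1 hgB, ⟨hTg, h⟩, hT⟩
    have h := congrArg Finset.card hU
    rw [Finset.card_biUnion hdisj, Finset.card_powersetCard, hscard] at h
    simpa [Finset.card_powersetCard, Nat.choose] using h
  have : (∑ g ∈ F, (g ∩ s).card.choose 5) % 6 = 0 := by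
    rw [Finset.sum_nat_mod, Finset.sum_congr rfl hg]; simp
  omega

theorem block_count {B : Set (Finset α)} (hB : IsSteinerSystem t k B) :
    B.ncard * k.choose t = (Fintype.card α).choose t := by
  obtain ⟨F, rfl⟩ := exists_finset B
  rw [Set.ncard_coe_finset]
  simpa using card_through hB ∅ (Nat.zero_le t)

omit [Fintype α] in
theorem derived {B : Set (Finset α)} (hB : IsSteinerSystem (t + 1) (k + 1) B) (p : α) :
    IsSteinerSystem t k {b' : Finset {a : α // a ≠ p} | ∃ b ∈ B, p ∈ b ∧
      b' = Finset.subtype (fun a => a ≠ p) b} := by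
  constructor
  · rintro _ ⟨b, hb, hp, rfl⟩
    rw [Finset.card_subtype, Finset.filter_ne' b p, Finset.card_erase_of_mem hp, hB.1 b hb]
    rfl
  intro s hs
  set s' := insert p (s.map (Function.Embedding.subtype _)) with hs'
  have hps : p ∉ s.map (Function.Embedding.subtype _) := by simp
  have hcard : s'.card = t + 1 := by
    rw [hs', Finset.card_insert_of_notMem hps, Finset.card_map, hs]
  obtain ⟨b, ⟨hb, hsb⟩, huniq⟩ := hB.2 s' hcard
  refine ⟨Finset.subtype _ b, ⟨⟨b, hb, hsb (Finset.mem_insert_self _ _), rfl⟩, fun a ha => ?_⟩, ?_⟩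
  · exact Finset.mem_subtype.2
      (hsb (Finset.mem_insert_of_mem (Finset.mem_map_of_mem (Function.Embedding.subtype _) ha)))
  rintro _ ⟨⟨b₁, hb₁, hp₁, rfl⟩, hsub⟩
  rw [huniq b₁ ⟨hb₁, Finset.insert_subset hp₁ fun a ha => ?_⟩]
  obtain ⟨a', ha', rfl⟩ := Finset.mem_map.1 ha
  exact Finset.mem_subtype.1 (hsub ha')

end CfsgLib.Steiner
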