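import Cfsg.Agent.Lib.Steiner.SRGHigmanSims

/-!
The number of automorphisms of the point-block graph of an S(3,6,22).
-/

set_option autoImplicit false

namespace CfsgLib.Steiner.HSAut

open Cfsg
open scoped Pointwise

variable {α : Type*} [Fintype α] [DecidableEq α] {B : Set (Finset α)}

omit [Fintype α] [DecidableEq α] in
theorem block_nonempty (hB : IsSteinerSystem 3 6 B) : ∀ b ∈ B, b.Nonempty := fun b hb =>
  Finset.card_pos.1 (by rw [hB.1 b hb]; norm_num)

omit [Fintype α] [DecidableEq α] in
/-- An automorphism fixing the extra vertex permutes points and blocks. -/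
theorem fixed_shape (φ : pointBlockGraph B ≃g pointBlockGraph B) (h0 : φ none = none) :
    (∀ a, ∃ a', φ (some (Sum.inl a)) = some (Sum.inl a')) ∧
      ∀ b, ∃ b', φ (some (Sum.inr b)) = some (Sum.inr b') := by
  have hadj : ∀ v, (pointBlockGraph B).Adj none (φ v) ↔ (pointBlockGraph B).Adj none v := fun v => by
    conv_lhs => rw [← h0]
    exact φ.map_adj_iff
  constructor
  · intro a
    have h := (hadj (some (Sum.inl a))).2 (BlockGraph.point_none_inl a)
    rcases hv : φ (some (Sum.inl a)) with _ | a' | b
    · exact absurd (φ.injective (hv.trans h0.symm)) (by simp)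
    · exact ⟨a', rfl⟩
    · exact absurd (hv ▸ h) (BlockGraph.not_none_inr b)
  · intro b
    rcases hv : φ (some (Sum.inr b)) with _ | a' | b'
    · exact absurd (φ.injective (hv.trans h0.symm)) (by simp)
    · exact absurd ((hadj (some (Sum.inr b))).1 (hv ▸ BlockGraph.point_none_inl a'))
        (BlockGraph.not_none_inr b)
    · exact ⟨b', rfl⟩

omit [Fintype α] in
/-- The vertex map of an automorphism of the system. -/
theorem exists_lift (hne : ∀ b ∈ B, b.Nonempty) (g : setSystemAut B) :
    ∃ φ : pointBlockGraph B ≃g pointBlockGraph B, φ none = none ∧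
      ∀ a, φ (some (Sum.inl a)) = some (Sum.inl ((g : Equiv.Perm α) a)) := by
  have hg : ∀ b, (g : Equiv.Perm α) • b ∈ B ↔ b ∈ B := MulAction.mem_stabilizer_set.1 g.2
  let e : B ≃ B :=
    { toFun := fun b => ⟨(g : Equiv.Perm α) • b.1, (hg b.1).2 b.2⟩
      invFun := fun b => ⟨(g : Equiv.Perm α)⁻¹ • b.1, (hg _).1 (by rw [smul_inv_smul]; exact b.2)⟩
      left_inv := fun b => Subtype.ext (inv_smul_smul _ _)
      right_inv := fun b => Subtype.ext (smul_inv_smul _ _) }
  have he : ∀ b : B, ((e b : B) : Finset α) = (g : Equiv.Perm α) • b.1 := fun _ => rfl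
  refine ⟨⟨Equiv.optionCongr (Equiv.sumCongr (g : Equiv.Perm α) e), fun {u w} => ?_⟩, rfl, fun _ => rfl⟩
  rcases u with _ | a | b <;> rcases w with _ | a' | b' <;>
    simp only [Equiv.optionCongr_apply, Option.map_none, Option.map_some, Equiv.sumCongr_apply,
      Sum.map_inl, Sum.map_inr]
  · exact iff_of_true (BlockGraph.point_none_inl _) (BlockGraph.point_none_inl _)
  · exact iff_of_false (BlockGraph.not_none_inr _) (BlockGraph.not_none_inr _)
  · exact iff_of_true (BlockGraph.point_none_inl _).symm (BlockGraph.point_none_inl _).symm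
  · exact iff_of_false (BlockGraph.not_inl_inl _ _) (BlockGraph.not_inl_inl _ _)
  · rw [BlockGraph.inl_inr, BlockGraph.inl_inr, he]
    exact Finset.smul_mem_smul_finset_iff (g : Equiv.Perm α)
  · exact iff_of_false (fun h => BlockGraph.not_none_inr _ h.symm)
      (fun h => BlockGraph.not_none_inr _ h.symm)
  · rw [SimpleGraph.adj_comm, BlockGraph.inl_inr, SimpleGraph.adj_comm, BlockGraph.inl_inr, he]
    exact Finset.smul_mem_smul_finset_iff (g : Equiv.Perm α)
  · rw [BlockGraph.inr_inr hne, BlockGraph.inr_inr hne, he, he, Finset.smul_finset_def,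
      Finset.smul_finset_def]
    exact Finset.disjoint_image (MulAction.injective (g : Equiv.Perm α))

theorem card_fixed (hα : Fintype.card α = 22) (hB : IsSteinerSystem 3 6 B) :
    Nat.card {φ : pointBlockGraph B ≃g pointBlockGraph B // φ none = none} = 887040 := by
  have hne := block_nonempty hB
  rw [← (Golay.DerivedPair.aut_facts hα hB).1]
  choose L hL0 hL using exists_lift (B := B) hne
  refine (Nat.card_congr (Equiv.ofBijective
    (fun g : setSystemAut B => (⟨L g, hL0 g⟩ :
      {φ : pointBlockGraph B ≃g pointBlockGraph B // φ none = none})) ⟨?_, ?_⟩)).symm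
  · intro g h e
    refine Subtype.ext (Equiv.ext fun a => ?_)
    have e' : L g = L h := congrArg Subtype.val e
    have h1 := hL g a
    rw [e', hL h a] at h1
    simpa using h1.symm
  · rintro ⟨φ, h0⟩
    obtain ⟨hpt, hblk⟩ := fixed_shape φ h0
    choose p hp using hpt
    choose q hq using hblk
    have hinj : Function.Injective p := fun a b hab =>
      Sum.inl_injective (Option.some_injective _
        (φ.injective ((hp a).trans (hab ▸ (hp b).symm))))
    let σ : Equiv.Perm α := Equiv.ofBijective p (Finite.injective_iff_bijective.1 hinj)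
    have himg : ∀ b : B, σ • (b : Finset α) = (q b : Finset α) := by
      intro b
      ext x
      obtain ⟨a, rfl⟩ := σ.surjective x
      rw [show σ a = σ • a from rfl, Finset.smul_mem_smul_finset_iff,
        show σ • a = p a from rfl, ← BlockGraph.inl_inr (p a) (q b), ← hp, ← hq,
        SimpleGraph.Iso.map_adj_iff, BlockGraph.inl_inr]
    have hσ : σ ∈ setSystemAut B := by
      rw [MulAction.mem_stabilizer_set']
      · intro b hb
        rw [show σ • b = (q ⟨b, hb⟩ : Finset α) from himg ⟨b, hb⟩]
        exact (q ⟨b, hb⟩).2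
      · exact Set.toFinite _
    refine ⟨⟨σ, hσ⟩, Subtype.ext (RelIso.ext fun v => ?_)⟩
    obtain ⟨-, hblk'⟩ := fixed_shape (L ⟨σ, hσ⟩) (hL0 _)
    rcases v with _ | a | b
    · exact (hL0 _).trans h0.symm
    · exact (hL _ a).trans (hp a).symm
    · obtain ⟨b', hb'⟩ := hblk' b
      show L ⟨σ, hσ⟩ (some (Sum.inr b)) = φ (some (Sum.inr b))
      rw [hb', hq]
      congr 2
      refine Subtype.ext (Finset.ext fun x => ?_)
      obtain ⟨a, rfl⟩ := σ.surjective x
      rw [← BlockGraph.inl_inr, ← BlockGraph.inl_inr]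
      conv_lhs => rw [← hb', show σ a = ((⟨σ, hσ⟩ : setSystemAut B) : Equiv.Perm α) a from rfl,
        ← hL, SimpleGraph.Iso.map_adj_iff]
      conv_rhs => rw [← hq, show σ a = p a from rfl, ← hp, SimpleGraph.Iso.map_adj_iff]

theorem card_aut (hα : Fintype.card α = 22) (hB : IsSteinerSystem 3 6 B) :
    Nat.card (pointBlockGraph B ≃g pointBlockGraph B) = 88704000 := by
  classical
  have : Fintype B := Fintype.ofFinite B
  have hsrg := BlockGraph.pointBlockGraph_srg hα hB
  choose ψ hψ using fun v => SRGHigmanSims.exists_iso hsrg hsrg none v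
  let e : (pointBlockGraph B ≃g pointBlockGraph B) ≃
      Option (α ⊕ B) × {φ : pointBlockGraph B ≃g pointBlockGraph B // φ none = none} :=
    { toFun := fun φ => (φ none, ⟨φ.trans (ψ (φ none)).symm, by
        show (ψ (φ none)).symm (φ none) = none
        conv_lhs => arg 2; rw [← hψ (φ none)]
        exact RelIso.symm_apply_apply _ _⟩)
      invFun := fun q => q.2.1.trans (ψ q.1)
      left_inv := fun φ => RelIso.ext fun v => by
        show ψ (φ none) ((ψ (φ none)).symm (φ v)) = φ v
        exact RelIso.apply_symm_apply _ _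
      right_inv := fun q => by
        have h1 : (q.2.1.trans (ψ q.1)) none = q.1 := by
          show ψ q.1 (q.2.1 none) = q.1
          rw [q.2.2, hψ]
        refine Prod.ext h1 (Subtype.ext (RelIso.ext fun v => ?_))
        show (ψ ((q.2.1.trans (ψ q.1)) none)).symm (ψ q.1 (q.2.1 v)) = q.2.1 v
        rw [h1, RelIso.symm_apply_apply] }
  rw [Nat.card_congr e, Nat.card_prod, card_fixed hα hB, Nat.card_eq_fintype_card, hsrg.card]

end CfsgLib.Steiner.HSAut
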