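import Cfsg.Agent.Lib.Steiner.SetMoment

/-!
The block graph and the point-block graph of an S(3,6,22).
-/

set_option autoImplicit false

namespace CfsgLib.Steiner.BlockGraph

open Cfsg

section Counts

variable {α : Type*} [Fintype α] [DecidableEq α] {F : Finset (Finset α)}

theorem card_blocks (hα : Fintype.card α = 22) (hB : IsSteinerSystem 3 6 (F : Set (Finset α))) :
    F.card = 77 := by
  have h := card_through hB ∅ (by simp)
  rw [hα] at h
  simp [Nat.choose] at h
  omega

theorem card_point (hα : Fintype.card α = 22) (hB : IsSteinerSystem 3 6 (F : Set (Finset α)))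
    (a : α) : (F.filter fun d => a ∈ d).card = 21 := by
  have h := card_through hB {a} (by simp)
  rw [hα] at h
  simp [Nat.choose] at h
  omega

theorem card_points (hα : Fintype.card α = 22) (hB : IsSteinerSystem 3 6 (F : Set (Finset α)))
    {a a' : α} (hne : a ≠ a') : (F.filter fun d => a ∈ d ∧ a' ∈ d).card = 5 := by
  have h := card_through hB {a, a'} (by rw [Finset.card_pair hne]; norm_num)
  rw [hα, Finset.card_pair hne] at h
  simp [Finset.insert_subset_iff] at h
  omega

theorem card_disjoint_block (hα : Fintype.card α = 22) (hB : IsSteinerSystem 3 6 (F : Set (Finset α)))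
    {b : Finset α} (hb : b ∈ F) : (F.filter fun d => Disjoint b d).card = 16 := by
  have hne : b.Nonempty := Finset.card_pos.1 (by rw [hB.1 b (Finset.mem_coe.2 hb)]; norm_num)
  rw [← (nums_3_6_22 hα hB hb).1, ← ncard_disjoint hne, ← Set.ncard_coe_finset]
  simp only [Finset.coe_filter, Finset.mem_coe]

theorem inter_card (hα : Fintype.card α = 22) (hB : IsSteinerSystem 3 6 (F : Set (Finset α)))
    {b c : Finset α} (hb : b ∈ F) (hc : c ∈ F) :
    (b ∩ c).card = 0 ∨ (b ∩ c).card = 2 ∨ b = c := by
  rcases eq_or_ne b c with h | h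
  · exact Or.inr (Or.inr h)
  · rcases inter_3_6_22 hα hB (Finset.mem_coe.2 hb) (Finset.mem_coe.2 hc) h with h' | h'
    · exact Or.inl h'
    · exact Or.inr (Or.inl h')

theorem no_triangle (hα : Fintype.card α = 22) (hB : IsSteinerSystem 3 6 (F : Set (Finset α)))
    {b c d : Finset α} (hb : b ∈ F) (hc : c ∈ F) (hd : d ∈ F) (hbc : Disjoint b c)
    (hbd : Disjoint b d) (hcd : Disjoint c d) : False := by
  set y := b ∪ c with hy
  have hb6 := hB.1 b (Finset.mem_coe.2 hb)
  have hc6 := hB.1 c (Finset.mem_coe.2 hc)
  have hy12 : y.card = 12 := by rw [hy, Finset.card_union_of_disjoint hbc, hb6, hc6]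
  have hval : ∀ e ∈ F, (y ∩ e).card % 2 = 0 ∧ (e ≠ b → e ≠ c → (y ∩ e).card ≤ 4) := by
    intro e he
    have he6 := hB.1 e (Finset.mem_coe.2 he)
    have hsum : (y ∩ e).card = (b ∩ e).card + (c ∩ e).card := by
      rw [hy, Finset.union_inter_distrib_right, Finset.card_union_of_disjoint
        (hbc.mono Finset.inter_subset_left Finset.inter_subset_left)]
    rcases inter_card hα hB hb he with h | h | h <;>
      rcases inter_card hα hB hc he with h' | h' | h' <;>
      first
        | (refine ⟨by omega, fun h1 h2 => ?_⟩; omega)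
        | (subst h; rw [Finset.inter_self] at hsum; refine ⟨by omega, fun h1 _ => absurd rfl h1⟩)
        | (subst h'; rw [Finset.inter_self] at hsum; refine ⟨by omega, fun _ h2 => absurd rfl h2⟩)
        | (subst h h'; exact absurd hbc (fun hh => by simp at hh; simp [hh] at hb6))
  have h6 : meetNum F y 6 = 2 := by
    have hbc' : b ≠ c := fun h => by
      subst h; rw [disjoint_self, Finset.bot_eq_empty] at hbc; simp [hbc] at hb6
    rw [meetNum, ← Finset.card_pair hbc']
    congr 1
    ext e
    simp only [Finset.mem_filter, Finset.mem_insert, Finset.mem_singleton]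
    constructor
    · rintro ⟨he, h⟩
      by_contra hcon
      push Not at hcon
      have := (hval e he).2 hcon.1 hcon.2
      omega
    · rintro (rfl | rfl)
      · exact ⟨hb, by rw [hy, Finset.union_inter_cancel_left, hb6]⟩
      · exact ⟨hc, by rw [hy, Finset.union_inter_cancel_right, hc6]⟩
  have hodd : ∀ j, j % 2 = 1 → meetNum F y j = 0 := fun j hj => meetNum_eq_zero fun e he h => by
    have := (hval e he).1
    omega
  have h0 : 0 < meetNum F y 0 := Finset.card_pos.2 ⟨d, Finset.mem_filter.2 ⟨hd, by
    rw [Finset.card_eq_zero, ← Finset.disjoint_iff_inter_eq_empty, hy, Finset.disjoint_union_left]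
    exact ⟨hbd, hcd⟩⟩⟩
  have m0 := setMoment hB y (i := 0) (by omega)
  have m1 := setMoment hB y (i := 1) (by omega)
  have m2 := setMoment hB y (i := 2) (by omega)
  rw [hα] at m0 m1 m2
  rw [hy12] at m1 m2
  simp only [Finset.sum_range_succ, Finset.sum_range_zero] at m0 m1 m2
  norm_num [Nat.choose, hodd 1, hodd 3, hodd 5, h6] at m0 m1 m2
  omega

theorem card_disjoint_two (hα : Fintype.card α = 22) (hB : IsSteinerSystem 3 6 (F : Set (Finset α)))
    {b c : Finset α} (hb : b ∈ F) (hc : c ∈ F) (hne : b ≠ c) (hbc : ¬Disjoint b c) :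
    (F.filter fun d => Disjoint b d ∧ Disjoint c d).card = 4 := by
  set y := b ∪ c with hy
  have hb6 := hB.1 b (Finset.mem_coe.2 hb)
  have hc6 := hB.1 c (Finset.mem_coe.2 hc)
  have hP : (b ∩ c).card = 2 := by
    rcases inter_card hα hB hb hc with h | h | h
    · exact absurd (Finset.disjoint_iff_inter_eq_empty.2 (Finset.card_eq_zero.1 h)) hbc
    · exact h
    · exact absurd h hne
  have hy10 : y.card = 10 := by
    have := Finset.card_union_add_card_inter b c
    rw [← hy] at this
    omega
  have hval : ∀ e ∈ F, e ≠ b → e ≠ c → (y ∩ e).card ≠ 1 ∧ (y ∩ e).card ≤ 4 := by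
    intro e he heb hec
    have hsum : (y ∩ e).card + (b ∩ c ∩ e).card = (b ∩ e).card + (c ∩ e).card := by
      rw [hy, Finset.union_inter_distrib_right, ← Finset.card_union_add_card_inter (b ∩ e) (c ∩ e)]
      congr 2
      ext x
      simp only [Finset.mem_inter]
      tauto
    have h1 : (b ∩ c ∩ e).card ≤ (b ∩ e).card := Finset.card_le_card (by
      intro x; simp only [Finset.mem_inter]; tauto)
    have h2 : (b ∩ c ∩ e).card ≤ (c ∩ e).card := Finset.card_le_card (by
      intro x; simp only [Finset.mem_inter]; tauto)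
    rcases inter_card hα hB hb he with h | h | h
    · rcases inter_card hα hB hc he with h' | h' | h'
      · exact ⟨by omega, by omega⟩
      · exact ⟨by omega, by omega⟩
      · exact absurd h'.symm hec
    · rcases inter_card hα hB hc he with h' | h' | h'
      · exact ⟨by omega, by omega⟩
      · exact ⟨by omega, by omega⟩
      · exact absurd h'.symm hec
    · exact absurd h.symm heb
  have hbb : (y ∩ b).card = 6 := by rw [hy, Finset.union_inter_cancel_left, hb6]
  have hcc : (y ∩ c).card = 6 := by rw [hy, Finset.union_inter_cancel_right, hc6]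
  have h6 : meetNum F y 6 = 2 := by
    rw [meetNum, ← Finset.card_pair hne]
    congr 1
    ext e
    simp only [Finset.mem_filter, Finset.mem_insert, Finset.mem_singleton]
    constructor
    · rintro ⟨he, h⟩
      by_contra hcon
      push Not at hcon
      have := (hval e he hcon.1 hcon.2).2
      omega
    · rintro (rfl | rfl)
      · exact ⟨hb, hbb⟩
      · exact ⟨hc, hcc⟩
  have hz : ∀ j, (j = 1 ∨ j = 5) → meetNum F y j = 0 := fun j hj => meetNum_eq_zero fun e he h => by
    rcases eq_or_ne e b with rfl | heb
    · omega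
    rcases eq_or_ne e c with rfl | hec
    · omega
    have := hval e he heb hec
    omega
  have heq : (F.filter fun d => Disjoint b d ∧ Disjoint c d).card = meetNum F y 0 := by
    rw [meetNum]
    refine congrArg _ (Finset.filter_congr fun e _ => ?_)
    rw [Finset.card_eq_zero, ← Finset.disjoint_iff_inter_eq_empty, hy, Finset.disjoint_union_left]
  have m0 := setMoment hB y (i := 0) (by omega)
  have m1 := setMoment hB y (i := 1) (by omega)
  have m2 := setMoment hB y (i := 2) (by omega)
  have m3 := setMoment hB y (i := 3) (by omega)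
  rw [hα] at m0 m1 m2 m3
  rw [hy10] at m1 m2 m3
  simp only [Finset.sum_range_succ, Finset.sum_range_zero] at m0 m1 m2 m3
  norm_num [Nat.choose, hz 1, hz 5, h6] at m0 m1 m2 m3
  omega

theorem card_point_disjoint (hα : Fintype.card α = 22)
    (hB : IsSteinerSystem 3 6 (F : Set (Finset α))) {a : α} {b : Finset α} (hb : b ∈ F)
    (ha : a ∉ b) : (F.filter fun d => a ∈ d ∧ Disjoint b d).card = 6 := by
  set y := insert a b with hy
  have hb6 := hB.1 b (Finset.mem_coe.2 hb)
  have hy7 : y.card = 7 := by rw [hy, Finset.card_insert_of_notMem ha, hb6]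
  have hval : ∀ e ∈ F, (y ∩ e).card = (b ∩ e).card + if a ∈ e then 1 else 0 := by
    intro e _
    split
    · next h => rw [hy, Finset.insert_inter_of_mem h, Finset.card_insert_of_notMem (by simp [ha])]
    · next h => rw [hy, Finset.insert_inter_of_notMem h, add_zero]
  have heq : (F.filter fun d => a ∈ d ∧ Disjoint b d).card = meetNum F y 1 := by
    rw [meetNum]
    refine congrArg _ (Finset.filter_congr fun e he => ?_)
    rw [hval e he, Finset.disjoint_iff_inter_eq_empty, ← Finset.card_eq_zero]
    rcases inter_card hα hB hb he with h | h | h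
    · split <;> simp_all
    · split <;> simp_all
    · subst h; simp [ha, hb6]
  have hbnd : ∀ e ∈ F, (y ∩ e).card ≠ 4 ∧ (y ∩ e).card ≠ 5 ∧ (y ∩ e).card ≠ 7 ∧
      ((y ∩ e).card = 6 ↔ b = e) := by
    intro e he
    have he6 := hB.1 e (Finset.mem_coe.2 he)
    rw [hval e he]
    rcases inter_card hα hB hb he with h | h | h
    · refine ⟨?_, ?_, ?_, ⟨fun h' => ?_, fun h' => ?_⟩⟩
      all_goals first | (subst h'; rw [Finset.inter_self] at h; omega) | (split_ifs at * <;> omega)
    · refine ⟨?_, ?_, ?_, ⟨fun h' => ?_, fun h' => ?_⟩⟩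
      all_goals first | (subst h'; rw [Finset.inter_self] at h; omega) | (split_ifs at * <;> omega)
    · subst h
      rw [Finset.inter_self, if_neg ha, hb6]
      simp
  have h6 : meetNum F y 6 = 1 := by
    rw [meetNum, ← Finset.card_singleton b]
    congr 1
    ext e
    simp only [Finset.mem_filter, Finset.mem_singleton]
    exact ⟨fun h => ((hbnd e h.1).2.2.2.1 h.2).symm,
      fun h => by subst h; exact ⟨hb, (hbnd e hb).2.2.2.2 rfl⟩⟩
  have hz : ∀ j, (j = 4 ∨ j = 5 ∨ j = 7) → meetNum F y j = 0 := fun j hj =>
    meetNum_eq_zero fun e he h => by have := hbnd e he; omega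
  have m0 := setMoment hB y (i := 0) (by omega)
  have m1 := setMoment hB y (i := 1) (by omega)
  have m2 := setMoment hB y (i := 2) (by omega)
  have m3 := setMoment hB y (i := 3) (by omega)
  rw [hα] at m0 m1 m2 m3
  rw [hy7] at m1 m2 m3
  simp only [Finset.sum_range_succ, Finset.sum_range_zero] at m0 m1 m2 m3
  have h21 : meetNum F y 1 + meetNum F y 3 = 21 := by
    rw [← card_point hα hB a, meetNum, meetNum, ← Finset.card_union_of_disjoint
      (Finset.disjoint_filter.2 fun e _ h => by omega)]
    congr 1
    ext e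
    simp only [Finset.mem_union, Finset.mem_filter]
    constructor
    · rintro (⟨he, h⟩ | ⟨he, h⟩) <;> refine ⟨he, ?_⟩ <;> by_contra hae <;>
        rw [hval e he, if_neg hae] at h <;>
        rcases inter_card hα hB hb he with h' | h' | h' <;>
        first | omega | (subst h'; rw [Finset.inter_self] at h; omega)
    · rintro ⟨he, hae⟩
      rw [hval e he, if_pos hae]
      rcases inter_card hα hB hb he with h | h | h
      · exact Or.inl ⟨he, by omega⟩
      · exact Or.inr ⟨he, by omega⟩
      · subst h; exact absurd hae ha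
  norm_num [Nat.choose, hz 4, hz 5, hz 7, h6] at m0 m1 m2 m3
  omega

end Counts

section Graphs

variable {α : Type*} {B : Set (Finset α)}

theorem ncard_sub (p : Finset α → Prop) [DecidablePred p] {F : Finset (Finset α)}
    (hF : (F : Set (Finset α)) = B) : Nat.card {d : B // p d} = (F.filter p).card := by
  subst hF
  rw [← Nat.card_eq_finsetCard]
  exact Nat.card_congr
    { toFun := fun d => ⟨d.1.1, Finset.mem_filter.2 ⟨d.1.2, d.2⟩⟩
      invFun := fun d => ⟨⟨d.1, (Finset.mem_filter.1 d.2).1⟩, (Finset.mem_filter.1 d.2).2⟩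
      left_inv := fun _ => rfl
      right_inv := fun _ => rfl }

theorem adj_iff (hne : ∀ b ∈ B, b.Nonempty) {b c : B} :
    (blockGraph B).Adj b c ↔ Disjoint (b : Finset α) (c : Finset α) := by
  rw [blockGraph, SimpleGraph.fromRel_adj]
  refine ⟨fun h => h.2.elim id (fun h' => Disjoint.symm h'), fun h => ⟨?_, Or.inl h⟩⟩
  rintro rfl
  exact (hne b.1 b.2).ne_empty (disjoint_self.1 h)

theorem blockGraph_srg [Fintype α] (hα : Fintype.card α = 22) (hB : IsSteinerSystem 3 6 B)
    [Fintype B] [DecidableRel (blockGraph B).Adj] : (blockGraph B).IsSRGWith 77 16 0 4 := by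
  classical
  obtain ⟨F, hF⟩ := exists_finset B
  have hmem : ∀ d : B, (d : Finset α) ∈ F := fun d => Finset.mem_coe.1 (hF.symm ▸ d.2)
  have hB' : IsSteinerSystem 3 6 (F : Set (Finset α)) := hF.symm ▸ hB
  have hne : ∀ b ∈ B, b.Nonempty := fun b hb =>
    Finset.card_pos.1 (by rw [hB.1 b hb]; norm_num)
  refine ⟨?_, fun b => ?_, fun b c h => ?_, fun b c hbc h => ?_⟩
  · rw [← Nat.card_eq_fintype_card, Nat.card_coe_set_eq, ← hF, Set.ncard_coe_finset,
      card_blocks hα hB']
  · rw [← SimpleGraph.card_neighborSet_eq_degree, ← Nat.card_eq_fintype_card,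
      ← card_disjoint_block hα hB' (hmem b), ← ncard_sub _ hF]
    exact Nat.card_congr (Equiv.subtypeEquivRight fun d => adj_iff hne)
  · rw [← Nat.card_eq_fintype_card, Nat.card_eq_zero]
    refine Or.inl ⟨fun d => ?_⟩
    exact no_triangle hα hB' (hmem b) (hmem c) (hmem d.1) ((adj_iff hne).1 h)
      ((adj_iff hne).1 d.2.1) ((adj_iff hne).1 d.2.2)
  · rw [← Nat.card_eq_fintype_card, ← card_disjoint_two hα hB' (hmem b) (hmem c)
      (fun e => hbc (Subtype.ext e)) (fun e => h ((adj_iff hne).2 e)), ← ncard_sub _ hF]
    exact Nat.card_congr (Equiv.subtypeEquivRight fun d => and_congr (adj_iff hne) (adj_iff hne))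

theorem point_none_inl (a : α) : (pointBlockGraph B).Adj none (some (Sum.inl a)) := by
  simp [pointBlockGraph, SimpleGraph.fromRel_adj, pointBlockRel]

theorem not_none_inr (b : B) : ¬(pointBlockGraph B).Adj none (some (Sum.inr b)) := by
  simp [pointBlockGraph, SimpleGraph.fromRel_adj, pointBlockRel]

theorem not_inl_inl (a a' : α) :
    ¬(pointBlockGraph B).Adj (some (Sum.inl a)) (some (Sum.inl a')) := by
  simp [pointBlockGraph, SimpleGraph.fromRel_adj, pointBlockRel]

theorem inl_inr (a : α) (b : B) :
    (pointBlockGraph B).Adj (some (Sum.inl a)) (some (Sum.inr b)) ↔ a ∈ (b : Finset α) := by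
  simp [pointBlockGraph, SimpleGraph.fromRel_adj, pointBlockRel]

theorem inr_inr (hne : ∀ b ∈ B, b.Nonempty) (b c : B) :
    (pointBlockGraph B).Adj (some (Sum.inr b)) (some (Sum.inr c)) ↔
      Disjoint (b : Finset α) (c : Finset α) := by
  rw [pointBlockGraph, SimpleGraph.fromRel_adj]
  refine ⟨fun h => h.2.elim id (fun h' => Disjoint.symm h'), fun h => ⟨?_, Or.inl h⟩⟩
  intro e
  obtain rfl : b = c := by simpa using e
  exact (hne b.1 b.2).ne_empty (disjoint_self.1 h)

theorem card_vertices [Finite α] [Finite B] (p : Option (α ⊕ B) → Prop) [Decidable (p none)] :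
    Nat.card {v // p v} = (if p none then 1 else 0) + Nat.card {a // p (some (Sum.inl a))} +
      Nat.card {b // p (some (Sum.inr b))} := by
  classical
  have := Fintype.ofFinite α
  have := Fintype.ofFinite B
  simp only [Nat.card_eq_fintype_card, Fintype.card_subtype, Finset.card_filter,
    Fintype.sum_option, Fintype.sum_sum_type]
  by_cases h : p none <;> simp [h]
  omega

theorem pointBlockGraph_srg [Fintype α] (hα : Fintype.card α = 22) (hB : IsSteinerSystem 3 6 B)
    [Fintype B] [DecidableRel (pointBlockGraph B).Adj] :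
    (pointBlockGraph B).IsSRGWith 100 22 0 6 := by
  classical
  obtain ⟨F, hF⟩ := exists_finset B
  have hmem : ∀ d : B, (d : Finset α) ∈ F := fun d => Finset.mem_coe.1 (hF.symm ▸ d.2)
  have hB' : IsSteinerSystem 3 6 (F : Set (Finset α)) := hF.symm ▸ hB
  have hne : ∀ b ∈ B, b.Nonempty := fun b hb =>
    Finset.card_pos.1 (by rw [hB.1 b hb]; norm_num)
  have hb6 : ∀ d : B, Nat.card {a // a ∈ (d : Finset α)} = 6 := fun d => by
    rw [Nat.card_eq_finsetCard, hB.1 _ d.2]
  have n0 := fun (b : B) => not_none_inr (B := B) b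
  have n0' : ∀ b : B, ¬(pointBlockGraph B).Adj (some (Sum.inr b)) none := fun b h => n0 b h.symm
  have n1 := fun (a : α) => point_none_inl (B := B) a
  have n1' : ∀ a : α, (pointBlockGraph B).Adj (some (Sum.inl a)) none := fun a => (n1 a).symm
  have n2 := not_inl_inl (B := B)
  have n3 := inl_inr (B := B)
  have n3' : ∀ (a : α) (b : B), (pointBlockGraph B).Adj (some (Sum.inr b)) (some (Sum.inl a)) ↔
      a ∈ (b : Finset α) := fun a b => (SimpleGraph.adj_comm ..).trans (n3 a b)
  have n4 := inr_inr hne
  have n00 : ¬(pointBlockGraph B).Adj none none := SimpleGraph.irrefl _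
  have hdeg : ∀ v, Nat.card {w // (pointBlockGraph B).Adj v w} = 22 := by
    rintro (_ | a | b) <;> rw [card_vertices]
    · simp [n1, n0, hα]
    · simp only [n1', n2, n3, if_true]
      rw [ncard_sub (fun d => a ∈ d) hF, card_point hα hB' a]
      simp
    · simp only [n0', n3', n4, if_false]
      rw [ncard_sub (fun d => Disjoint (b : Finset α) d) hF, card_disjoint_block hα hB' (hmem b),
        hb6]
  have hcard : Fintype.card B = 77 := by
    rw [← Nat.card_eq_fintype_card, Nat.card_coe_set_eq, ← hF, Set.ncard_coe_finset,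
      card_blocks hα hB']
  refine ⟨?_, fun v => ?_, fun v w h => ?_, fun v w hvw h => ?_⟩
  · simp [hα, hcard]
  · rw [← SimpleGraph.card_neighborSet_eq_degree, ← Nat.card_eq_fintype_card]
    exact hdeg v
  · rw [← Nat.card_eq_fintype_card, Nat.card_eq_zero]
    refine Or.inl ⟨fun ⟨u, hu1, hu2⟩ => ?_⟩
    rw [SimpleGraph.mem_neighborSet] at hu1 hu2
    rcases v with _ | a | b <;> rcases w with _ | a' | b' <;> rcases u with _ | x | d <;>
      simp only [n00, n0, n0', n1, n1', n2, n3, n3', n4] at h hu1 hu2
    all_goals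
      first
        | exact Finset.disjoint_left.1 hu2 ‹_› ‹_›
        | exact Finset.disjoint_left.1 h hu1 hu2
        | exact Finset.disjoint_left.1 hu2 h hu1
        | exact Finset.disjoint_left.1 hu1 h hu2
        | exact Finset.disjoint_left.1 hu2 hu1 h
        | exact Finset.disjoint_left.1 hu1 hu2 h
        | exact no_triangle hα hB' (hmem _) (hmem _) (hmem _) h hu1 hu2
  · rw [← Nat.card_eq_fintype_card]
    have hgoal : Nat.card {u // (pointBlockGraph B).Adj v u ∧ (pointBlockGraph B).Adj w u} = 6 := by
      rcases v with _ | a | b <;> rcases w with _ | a' | b' <;> rw [card_vertices] <;>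
        simp only [n00, n0, n0', n1, n1', n2, n3, n3', n4, not_true, not_false_iff] at h ⊢
      · exact absurd rfl hvw
      · simp only [true_and, and_true, false_and, and_false, hb6]
        simp
      · rw [ncard_sub (fun d => a ∈ d ∧ a' ∈ d) hF,
          card_points hα hB' (fun e => hvw (by rw [e]))]
        simp
      · rw [ncard_sub (fun d => a ∈ d ∧ Disjoint (b' : Finset α) d) hF,
          card_point_disjoint hα hB' (hmem b') h]
        simp
      · simp only [true_and, and_true, false_and, and_false, hb6]
        simp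
      · have : ∀ d : B, (Disjoint (b : Finset α) d ∧ a' ∈ (d : Finset α)) ↔
            (a' ∈ (d : Finset α) ∧ Disjoint (b : Finset α) d) := fun d => and_comm
        simp only [this]
        rw [ncard_sub (fun d => a' ∈ d ∧ Disjoint (b : Finset α) d) hF,
          card_point_disjoint hα hB' (hmem b) h]
        simp
      · have hne' : (b : Finset α) ≠ b' := fun e => hvw (by rw [Subtype.ext e])
        rw [ncard_sub (fun d => Disjoint (b : Finset α) d ∧ Disjoint (b' : Finset α) d) hF,
          card_disjoint_two hα hB' (hmem b) (hmem b') hne' h]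
        have h2 : Nat.card {a // a ∈ (b : Finset α) ∧ a ∈ (b' : Finset α)} = 2 := by
          rcases inter_card hα hB' (hmem b) (hmem b') with h' | h' | h'
          · exact absurd (Finset.disjoint_iff_inter_eq_empty.2 (Finset.card_eq_zero.1 h')) h
          · rw [← h', ← Nat.card_eq_finsetCard]
            exact Nat.card_congr (Equiv.subtypeEquivRight fun x => Finset.mem_inter.symm)
          · exact absurd h' hne'
        simp only [Nat.card_eq_fintype_card] at h2 ⊢
        simp [h2]
    exact hgoal

end Graphs

end CfsgLib.Steiner.BlockGraph
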