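import Cfsg.Agent.Lib.Steiner.SRGHigmanSims
import Cfsg.Prelude.Def_Sporadic
import Mathlib.GroupTheory.GroupAction.Blocks
import Mathlib.GroupTheory.Perm.Cycle.Type

/-! The even automorphisms of the graph of an S(3,6,22): a simple group of order 44352000. -/

set_option autoImplicit false

namespace CfsgLib.Steiner.HSGraph

open Cfsg
open scoped Pointwise

/-- A simplicity criterion for rank three groups of degree 100. -/
theorem simple_of_suborbits {X : Type*} [Finite X] (hX : Nat.card X = 100)
    (G : Subgroup (Equiv.Perm X)) (a : X) [MulAction.IsPretransitive G X]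
    (hS : IsSimpleGroup (MulAction.stabilizer G a))
    (hinv : ∀ O : Set X, a ∈ O → (∀ s : MulAction.stabilizer G a, ∀ u ∈ O, (s : G) • u ∈ O) →
      O.ncard = 1 ∨ O.ncard = 23 ∨ O.ncard = 78 ∨ O.ncard = 100) :
    IsSimpleGroup G := by
  have htr : ∀ N : Subgroup G, N.Normal → N ≠ ⊥ → ∀ u : X, ∃ n ∈ N, n • a = u := by
    intro N hN hne
    have hblock : MulAction.IsBlock G (MulAction.orbit N a) := MulAction.IsBlock.orbit_of_normal a
    have hdvd := hblock.ncard_dvd_card ⟨a, MulAction.mem_orbit_self a⟩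
    rw [hX] at hdvd
    have hsz := hinv (MulAction.orbit N a) (MulAction.mem_orbit_self a) (by
      rintro s _ ⟨n, rfl⟩
      refine ⟨⟨(s : G) * (n : G) * (s : G)⁻¹, hN.conj_mem _ n.2 _⟩, ?_⟩
      show ((s : G) * (n : G) * (s : G)⁻¹) • a = (s : G) • ((n : G) • a)
      rw [mul_smul, mul_smul, show (s : G)⁻¹ • a = a from inv_smul_eq_iff.2 s.2.symm])
    rcases hsz with h | h | h | h
    · exfalso
      have hfix : ∀ n ∈ N, n • a = a := fun n hn => by
        obtain ⟨w, hw⟩ := Set.ncard_eq_one.1 h
        have h1 : n • a ∈ MulAction.orbit N a := ⟨⟨n, hn⟩, rfl⟩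
        have h2 := MulAction.mem_orbit_self (M := N) a
        rw [hw, Set.mem_singleton_iff] at h1 h2
        exact h1.trans h2.symm
      refine hne (N.eq_bot_iff_forall.2 fun n hn => Subtype.ext (Equiv.ext fun u => ?_))
      obtain ⟨g, rfl⟩ := MulAction.exists_smul_eq G a u
      show n • (g • a) = g • a
      have hc := hfix _ (hN.conj_mem n hn g⁻¹)
      rw [inv_inv, mul_smul, mul_smul, inv_smul_eq_iff] at hc
      exact hc
    · rw [h] at hdvd; norm_num at hdvd
    · rw [h] at hdvd; norm_num at hdvd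
    · intro u
      have huniv : MulAction.orbit N a = Set.univ :=
        Set.eq_of_subset_of_ncard_le (Set.subset_univ _) (by rw [Set.ncard_univ, hX, h]) (Set.toFinite _)
      obtain ⟨n, hn⟩ : u ∈ MulAction.orbit N a := huniv ▸ Set.mem_univ u
      exact ⟨n, n.2, hn⟩
  have : Nontrivial X := Finite.one_lt_card_iff_nontrivial.1 (by omega)
  have : Nontrivial G := by
    obtain ⟨u, hu⟩ := exists_ne a
    obtain ⟨g, hg⟩ := MulAction.exists_smul_eq G a u
    exact ⟨⟨g, 1, fun e => hu (by rw [← hg, e, one_smul])⟩⟩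
  refine { eq_bot_or_eq_top_of_normal := fun N hN => or_iff_not_imp_left.2 fun hne => ?_ }
  have hM : (N.subgroupOf (MulAction.stabilizer G a)).Normal := hN.subgroupOf _
  rcases hS.eq_bot_or_eq_top_of_normal _ hM with hbot | htop
  · exfalso
    have hinj : Function.Injective fun n : N => (n : G) • a := by
      intro n m hnm
      have hmem : (m : G)⁻¹ * n ∈ MulAction.stabilizer G a :=
        MulAction.mem_stabilizer_iff.2 (by rw [mul_smul]; exact inv_smul_eq_iff.2 hnm)
      have : (⟨_, hmem⟩ : MulAction.stabilizer G a) ∈ N.subgroupOf (MulAction.stabilizer G a) :=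
        Subgroup.mem_subgroupOf.2 (N.mul_mem (N.inv_mem m.2) n.2)
      rw [hbot, Subgroup.mem_bot, Subtype.ext_iff] at this
      exact Subtype.ext (inv_mul_eq_one.1 this).symm
    have hcard : Nat.card N = 100 := by
      rw [← hX]
      exact Nat.card_congr (Equiv.ofBijective _ ⟨hinj, fun u =>
        let ⟨n, hn, e⟩ := htr N hN hne u; ⟨⟨n, hn⟩, e⟩⟩)
    have : Fact (Nat.Prime 5) := ⟨by norm_num⟩
    obtain ⟨P⟩ := (inferInstance : Nonempty (Sylow 5 N))
    have h25 : 5 ^ 2 ∣ Nat.card N := by rw [hcard]; norm_num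
    have hP : 25 ∣ Nat.card P := P.pow_dvd_card_of_pow_dvd_card h25
    have hPle : Nat.card P = 25 := by
      obtain ⟨k, hk⟩ := IsPGroup.iff_card.1 P.isPGroup'
      rw [hk]
      have hk2 : 2 ≤ k := by
        by_contra hlt
        have := Nat.le_of_dvd (by positivity) (hk ▸ hP)
        interval_cases k <;> norm_num at this
      have hk3 : k ≤ 2 := by
        by_contra hlt
        have h125 : 5 ^ 3 ∣ Nat.card N :=
          dvd_trans (pow_dvd_pow 5 (by omega)) (hk ▸ Subgroup.card_subgroup_dvd_card _)
        rw [hcard] at h125; norm_num at h125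
      obtain rfl : k = 2 := by omega
      norm_num
    have hone : Nat.card (Sylow 5 N) = 1 := by
      have h1 := card_sylow_modEq_one 5 N
      have h2 : Nat.card (Sylow 5 N) ∣ 4 := by
        have hi := Subgroup.card_mul_index (P : Subgroup N)
        rw [hcard, hPle] at hi
        have := P.card_dvd_index
        rwa [show (P : Subgroup N).index = 4 by omega] at this
      have := Nat.le_of_dvd (by norm_num) h2
      unfold Nat.ModEq at h1
      omega
    have : Subsingleton (Sylow 5 N) := (Nat.card_eq_one_iff_unique.1 hone).1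
    have : (P : Subgroup N).Characteristic := P.characteristic_of_subsingleton
    have hPn : ((P : Subgroup N).map N.subtype).Normal := ConjAct.normal_of_characteristic_of_normal
    have hPcard : Nat.card ((P : Subgroup N).map N.subtype) = 25 :=
      (Subgroup.card_map_of_injective N.subtype_injective).trans hPle
    have hPne : (P : Subgroup N).map N.subtype ≠ ⊥ := fun e => by
      rw [e, Subgroup.card_bot] at hPcard; norm_num at hPcard
    have := Nat.card_le_card_of_surjective (fun p : (P : Subgroup N).map N.subtype => (p : G) • a)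
      fun u => let ⟨n, hn, e⟩ := htr _ hPn hPne u; ⟨⟨n, hn⟩, e⟩
    omega
  · refine (Subgroup.eq_top_iff' N).2 fun g => ?_
    obtain ⟨n, hn, hna⟩ := htr N hN hne (g • a)
    have hmem : n⁻¹ * g ∈ MulAction.stabilizer G a :=
      MulAction.mem_stabilizer_iff.2 (by rw [mul_smul]; exact inv_smul_eq_iff.2 hna.symm)
    have : (⟨_, hmem⟩ : MulAction.stabilizer G a) ∈ N.subgroupOf (MulAction.stabilizer G a) :=
      htop ▸ Subgroup.mem_top _
    simpa using N.mul_mem hn (Subgroup.mem_subgroupOf.1 this)

variable {α : Type*} [Fintype α] [DecidableEq α] {B : Set (Finset α)}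

/-- The vertices of the graph. -/
abbrev Vtx (B : Set (Finset α)) := Option (α ⊕ B)

/-- Automorphisms of the graph, as permutations. -/
def autPerm (B : Set (Finset α)) : Subgroup (Equiv.Perm (Vtx B)) where
  carrier := {f | ∀ u v, (pointBlockGraph B).Adj (f u) (f v) ↔ (pointBlockGraph B).Adj u v}
  one_mem' := fun _ _ => Iff.rfl
  mul_mem' := fun {f g} hf hg u v => (hf (g u) (g v)).trans (hg u v)
  inv_mem' := fun {f} hf u v => by
    have h := hf (f⁻¹ u) (f⁻¹ v)
    rw [← Equiv.Perm.mul_apply, ← Equiv.Perm.mul_apply, mul_inv_cancel] at h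
    exact h.symm

/-- Graph automorphisms as permutations. -/
def autEquiv (B : Set (Finset α)) :
    (pointBlockGraph B ≃g pointBlockGraph B) ≃* autPerm B where
  toFun φ := ⟨φ.toEquiv, fun _ _ => φ.map_rel_iff⟩
  invFun f := ⟨f.1, fun {u v} => f.2 u v⟩
  left_inv _ := RelIso.ext fun _ => rfl
  right_inv _ := rfl
  map_mul' _ _ := Subtype.ext (Equiv.ext fun _ => rfl)

/-- The action of an automorphism of the system on the vertices. -/
def onVtx : setSystemAut B →* Equiv.Perm (Vtx B) where
  toFun g := Equiv.optionCongr (Equiv.sumCongr (g : Equiv.Perm α)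
    { toFun := fun b => ⟨(g : Equiv.Perm α) • b.1, (MulAction.mem_stabilizer_set.1 g.2 b.1).2 b.2⟩
      invFun := fun b => ⟨((g⁻¹ : setSystemAut B) : Equiv.Perm α) • b.1,
        (MulAction.mem_stabilizer_set.1 (g⁻¹).2 b.1).2 b.2⟩
      left_inv := fun b => Subtype.ext (inv_smul_smul (g : Equiv.Perm α) b.1)
      right_inv := fun b => Subtype.ext (smul_inv_smul (g : Equiv.Perm α) b.1) })
  map_one' := Equiv.ext fun u => by
    rcases u with _ | x | b <;> simp
  map_mul' g h := Equiv.ext fun u => by
    rcases u with _ | x | b <;> simp [mul_smul]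

theorem onVtx_none (g : setSystemAut B) : onVtx g none = none := rfl

theorem onVtx_inl (g : setSystemAut B) (x : α) :
    onVtx g (some (Sum.inl x)) = some (Sum.inl ((g : Equiv.Perm α) x)) := rfl

theorem onVtx_inr (g : setSystemAut B) (b : B) :
    onVtx g (some (Sum.inr b)) =
      some (Sum.inr ⟨(g : Equiv.Perm α) • b.1, (MulAction.mem_stabilizer_set.1 g.2 b.1).2 b.2⟩) := rfl

theorem onVtx_injective : Function.Injective (onVtx (B := B)) := fun g h e =>
  Subtype.ext (Equiv.ext fun x => by
    have := congrArg (fun f : Equiv.Perm (Vtx B) => f (some (Sum.inl x))) e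
    simpa [onVtx_inl] using this)

theorem onVtx_mem (hne : ∀ b ∈ B, b.Nonempty) (g : setSystemAut B) : onVtx g ∈ autPerm B := by
  intro u v
  rcases u with _ | x | b <;> rcases v with _ | x' | b' <;> simp only [onVtx_none, onVtx_inl, onVtx_inr]
  · exact iff_of_true (BlockGraph.point_none_inl _) (BlockGraph.point_none_inl _)
  · exact iff_of_false (BlockGraph.not_none_inr _) (BlockGraph.not_none_inr _)
  · exact iff_of_true (BlockGraph.point_none_inl _).symm (BlockGraph.point_none_inl _).symm
  · exact iff_of_false (BlockGraph.not_inl_inl _ _) (BlockGraph.not_inl_inl _ _)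
  · rw [BlockGraph.inl_inr, BlockGraph.inl_inr]
    exact Finset.smul_mem_smul_finset_iff (g : Equiv.Perm α)
  · exact iff_of_false (fun h => BlockGraph.not_none_inr _ h.symm)
      (fun h => BlockGraph.not_none_inr _ h.symm)
  · rw [SimpleGraph.adj_comm, BlockGraph.inl_inr, SimpleGraph.adj_comm, BlockGraph.inl_inr]
    exact Finset.smul_mem_smul_finset_iff (g : Equiv.Perm α)
  · rw [BlockGraph.inr_inr hne, BlockGraph.inr_inr hne]
    exact Finset.disjoint_image (g : Equiv.Perm α).injective

theorem exists_onVtx (hne : ∀ b ∈ B, b.Nonempty) {f : Equiv.Perm (Vtx B)} (hf : f ∈ autPerm B)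
    (h0 : f none = none) : ∃ g : setSystemAut B, onVtx g = f := by
  have hl : ∀ x, ∃ y, f (some (Sum.inl x)) = some (Sum.inl y) := by
    intro x
    have h := (hf none (some (Sum.inl x))).2 (BlockGraph.point_none_inl x)
    rw [h0] at h
    rcases hfx : f (some (Sum.inl x)) with _ | y | b
    · rw [hfx] at h; exact absurd h ((pointBlockGraph B).irrefl)
    · exact ⟨y, rfl⟩
    · rw [hfx] at h; exact absurd h (BlockGraph.not_none_inr b)
  have hr : ∀ b, ∃ c, f (some (Sum.inr b)) = some (Sum.inr c) := by
    intro b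
    rcases hfb : f (some (Sum.inr b)) with _ | y | c
    · exact absurd (f.injective (hfb.trans h0.symm)) (Option.some_ne_none _)
    · exfalso
      have h := hf none (some (Sum.inr b))
      rw [h0, hfb] at h
      exact BlockGraph.not_none_inr b (h.1 (BlockGraph.point_none_inl y))
    · exact ⟨c, rfl⟩
  choose p hp using hl
  choose q hq using hr
  have hpinj : Function.Injective p := fun x y e => by
    simpa using f.injective (show f (some (Sum.inl x)) = f (some (Sum.inl y)) by rw [hp, hp, e])
  set σ := Equiv.ofBijective p (Finite.injective_iff_bijective.1 hpinj)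
  have himg : ∀ b : B, σ • b.1 = (q b).1 := by
    intro b
    ext y
    obtain ⟨x, rfl⟩ := σ.surjective y
    rw [← Equiv.Perm.smul_def, Finset.smul_mem_smul_finset_iff, ← BlockGraph.inl_inr x b,
      Equiv.Perm.smul_def, ← BlockGraph.inl_inr (σ x) (q b), ← hf, hp, hq]
    rfl
  have hstab : σ ∈ setSystemAut B := by
    rw [setSystemAut, MulAction.mem_stabilizer_set']
    · intro b hb
      exact (himg ⟨b, hb⟩).symm ▸ (q ⟨b, hb⟩).2
    · exact Set.toFinite _
  refine ⟨⟨σ, hstab⟩, Equiv.ext fun u => ?_⟩
  rcases u with _ | x | b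
  · exact h0.symm
  · rw [hp]; rfl
  · rw [hq, onVtx_inr]
    exact congrArg (fun z => some (Sum.inr z)) (Subtype.ext (himg b))

theorem fixed_octads_check :
    Golay.countR (fun x => let c := Golay.comb x; Nat.beq (Golay.pc24 c) 8 &&
      ((c.testBit 23 && c.testBit 0) && Nat.beq (Golay.push (Golay.slpAt 1) c) c)) 12 0 = 5 := by
  decide +kernel

theorem push_projInv_lt (n : ℕ) : Golay.push (Golay.slpAt 1) n < 2 ^ 24 := by
  refine Nat.lt_pow_two_of_testBit _ fun i hi => ?_
  by_contra h
  rw [Bool.not_eq_false, Golay.push, Golay.testBit_push_aux] at h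
  obtain ⟨j, hj, -, hji⟩ := h
  have h3 := Golay.gen_codes.2.1 (Golay.pt j)
  rw [Golay.bit_pt hj, hji] at h3
  have := Golay.bit_lt (projInv (Golay.pt j))
  omega

theorem ncard_fixed_octads :
    {o | o ∈ octads ∧ (none ∈ o ∧ (some 0 : GolayPt) ∈ o) ∧ projInv • o = o}.ncard = 5 := by
  rw [← fixed_octads_check]
  refine Golay.ncard_filter_weight 8
    (fun c => (c.testBit 23 && c.testBit 0) && Nat.beq (Golay.push (Golay.slpAt 1) c) c)
    (fun o => (none ∈ o ∧ (some 0 : GolayPt) ∈ o) ∧ projInv • o = o) fun n hn => ?_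
  simp only [Bool.and_eq_true, Nat.beq_eq, Golay.mem_toSet,
    show Golay.bit (none : GolayPt) = 23 from rfl, show Golay.bit (some (0 : ZMod 23)) = 0 from rfl]
  refine and_congr_right fun _ => ?_
  rw [← Golay.toSet_push (σ := projInv) Golay.gen_codes.2.1 n]
  refine ⟨fun h => by rw [h], fun h => Golay.toSet_inj ?_ hn h⟩
  exact push_projInv_lt n

theorem lift_map_equivariant {c : Golay.DerivedPair.Coord B} {g : setSystemAut B}
    (hg : ∀ x, projInv (c.e (some (some x))) = c.e (some (some ((g : Equiv.Perm α) x)))) :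
    ∀ b : Finset α, (Golay.DerivedPair.lift ((g : Equiv.Perm α) • b)).map c.e.toEmbedding =
      projInv • (Golay.DerivedPair.lift b).map c.e.toEmbedding := by
  intro b
  ext p
  obtain ⟨o, rfl⟩ := c.e.surjective p
  rw [Finset.mem_map_equiv, Equiv.symm_apply_apply, ← Finset.inv_smul_mem_iff]
  have hs : ∀ p, projInv⁻¹ • p = projInv p := fun p => by
    rw [inv_smul_eq_iff, Equiv.Perm.smul_def]; exact (projInv.left_inv p).symm
  rw [hs, Finset.mem_map_equiv]
  match o with
  | none =>
    rw [c.none_eq, show projInv none = some 0 from rfl,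
      show c.e.symm (some 0) = some none by rw [Equiv.symm_apply_eq, c.some_eq]]
    simp [Golay.DerivedPair.lift]
  | some none =>
    rw [c.some_eq, show projInv (some 0) = none from rfl,
      show c.e.symm none = none by rw [Equiv.symm_apply_eq, c.none_eq]]
    simp [Golay.DerivedPair.lift]
  | some (some x) =>
    rw [hg, Equiv.symm_apply_apply]
    simp only [Golay.DerivedPair.lift, Finset.some_mem_insertNone]
    have hinv : (g : Equiv.Perm α) ((g : Equiv.Perm α) x) = x := by
      have h1 := hg ((g : Equiv.Perm α) x)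
      rw [← hg, show projInv (projInv (c.e (some (some x)))) = c.e (some (some x)) from
        projInv.left_inv _] at h1
      exact (Option.some_injective _ (Option.some_injective _ (c.e.injective h1))).symm
    conv_lhs => rw [← hinv, ← Equiv.Perm.smul_def, Finset.smul_mem_smul_finset_iff]

theorem card_fixed_blocks {c : Golay.DerivedPair.Coord B} {g₀ : setSystemAut B}
    (hg₀' : ∀ x, projInv (c.e (some (some x))) = c.e (some (some ((g₀ : Equiv.Perm α) x)))) :
    Nat.card {b : B // onVtx g₀ (some (Sum.inr b)) = some (Sum.inr b)} = 5 := by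
  have hequiv := lift_map_equivariant hg₀'
  rw [← ncard_fixed_octads, ← Nat.card_coe_set_eq]
  refine Nat.card_congr (Equiv.ofBijective (fun b => ⟨(Golay.DerivedPair.lift b.1.1).map c.e.toEmbedding,
    (c.mem_block _).1 b.1.2, ⟨?_, ?_⟩, ?_⟩) ⟨fun b d h => ?_, fun o => ?_⟩)
  · exact Finset.mem_map_equiv.2 (by
      rw [show c.e.symm none = none by rw [Equiv.symm_apply_eq, c.none_eq]]
      simp [Golay.DerivedPair.lift])
  · exact Finset.mem_map_equiv.2 (by
      rw [show c.e.symm (some 0) = some none by rw [Equiv.symm_apply_eq, c.some_eq]]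
      simp [Golay.DerivedPair.lift])
  · have h := b.2
    simp only [onVtx_inr, Option.some.injEq, Sum.inr.injEq, Subtype.ext_iff] at h
    rw [← hequiv, h]
  · have h' := congrArg (fun s => Finset.eraseNone (Finset.eraseNone s))
      (Finset.map_injective _ (congrArg Subtype.val h))
    simp only [Golay.DerivedPair.lift, Finset.eraseNone_insertNone] at h'
    exact Subtype.ext (Subtype.ext h')
  · obtain ⟨o, ho, ⟨ho1, ho2⟩, hofix⟩ := o
    have hb : (Golay.DerivedPair.lift (Finset.eraseNone (Finset.eraseNone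
        (o.map c.e.symm.toEmbedding)))).map c.e.toEmbedding = o := by
      ext p
      obtain ⟨q, rfl⟩ := c.e.surjective p
      rw [Finset.mem_map_equiv, Equiv.symm_apply_apply]
      match q with
      | none => rw [c.none_eq]; simp [Golay.DerivedPair.lift, ho1]
      | some none => rw [c.some_eq]; simp [Golay.DerivedPair.lift, ho2]
      | some (some x) =>
        simp [Golay.DerivedPair.lift, Finset.mem_map_equiv]
    refine ⟨⟨⟨_, (c.mem_block _).2 (hb.symm ▸ ho)⟩, ?_⟩, Subtype.ext hb⟩
    simp only [onVtx_inr, Option.some.injEq, Sum.inr.injEq, Subtype.ext_iff]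
    have h : (Golay.DerivedPair.lift ((g₀ : Equiv.Perm α) • Finset.eraseNone (Finset.eraseNone
        (o.map c.e.symm.toEmbedding)))).map c.e.toEmbedding =
        (Golay.DerivedPair.lift (Finset.eraseNone (Finset.eraseNone
          (o.map c.e.symm.toEmbedding)))).map c.e.toEmbedding := by
      rw [hequiv, hb, hofix]
    have h' := congrArg (fun s => Finset.eraseNone (Finset.eraseNone s))
      (Finset.map_injective _ h)
    simp only [Golay.DerivedPair.lift, Finset.eraseNone_insertNone] at h'
    exact h'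

theorem sign_outer [Fintype B] (hα : Fintype.card α = 22) (hB : IsSteinerSystem 3 6 B)
    {c : Golay.DerivedPair.Coord B} {φ : setSystemAut B ≃* Golay.DerivedPair.pairStab}
    (hφ : ∀ g x, (φ g : Equiv.Perm GolayPt) (c.e (some (some x))) =
        c.e (some (some ((g : Equiv.Perm α) x)))) :
    Equiv.Perm.sign (onVtx (φ.symm ⟨projInv, Golay.DerivedPair.projInv_mem_pairStab⟩)) = -1 := by
  classical
  have hsrg := BlockGraph.pointBlockGraph_srg hα hB
  set g₀ := φ.symm ⟨projInv, Golay.DerivedPair.projInv_mem_pairStab⟩ with hg₀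
  have hg₀' : ∀ x, projInv (c.e (some (some x))) = c.e (some (some ((g₀ : Equiv.Perm α) x))) := by
    intro x
    rw [← hφ g₀ x, hg₀, MulEquiv.apply_symm_apply]
  have hsq : (onVtx g₀) ^ 2 = 1 := by
    rw [← map_pow, ← map_one (onVtx (B := B))]
    congr 1
    rw [hg₀, ← map_pow, ← map_one φ.symm]
    congr 1
    refine Subtype.ext (Equiv.ext fun p => ?_)
    show projInv (projInv p) = p
    exact projInv.left_inv p
  rw [Equiv.Perm.sign_of_pow_two_eq_one hsq, hsrg.card]
  have hfix : Fintype.card (Function.fixedPoints (onVtx g₀)) = 6 := by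
    rw [← Nat.card_eq_fintype_card]
    show Nat.card {u // onVtx g₀ u = u} = 6
    rw [BlockGraph.card_vertices, if_pos (onVtx_none g₀)]
    have h1 : Nat.card {x : α // onVtx g₀ (some (Sum.inl x)) = some (Sum.inl x)} = 0 := by
      rw [Nat.card_eq_zero]
      refine Or.inl ⟨fun x => ?_⟩
      have h := x.2
      simp only [onVtx_inl, Option.some.injEq, Sum.inl.injEq] at h
      have hp := hg₀' x.1
      rw [h] at hp
      have key : ∀ p : GolayPt, projInv p ≠ p := by decide +kernel
      exact key _ hp
    have h2 := card_fixed_blocks (c := c) hg₀'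
    rw [h1, h2]
  rw [hfix]
  decide +kernel

/-- The simple subgroup of index 2. -/
def evenAut {c : Golay.DerivedPair.Coord B} (φ : setSystemAut B ≃* Golay.DerivedPair.pairStab) :
    Subgroup (setSystemAut B) :=
  ((Golay.fixPts M24 [some 0, none]).subgroupOf Golay.DerivedPair.pairStab).comap φ.toMonoidHom

theorem evenAut_trans (hα : Fintype.card α = 22) (hB : IsSteinerSystem 3 6 B)
    {c : Golay.DerivedPair.Coord B} {φ : setSystemAut B ≃* Golay.DerivedPair.pairStab}
    (hφ : ∀ g x, (φ g : Equiv.Perm GolayPt) (c.e (some (some x))) =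
        c.e (some (some ((g : Equiv.Perm α) x)))) (xs ys : List α) (hx : xs.Nodup) (hy : ys.Nodup)
    (hlen : xs.length = ys.length) (h3 : xs.length ≤ 3) :
    ∃ g ∈ evenAut (c := c) φ, xs.map (g : Equiv.Perm α) = ys := by
  have hι : ∀ x : α, c.e (some (some x)) ≠ none ∧ c.e (some (some x)) ≠ some 0 := fun x =>
    ⟨fun h => Option.some_ne_none _ (c.e.injective (h.trans c.none_eq.symm)),
      fun h => Option.some_ne_none x (Option.some_injective _ (c.e.injective (h.trans c.some_eq.symm)))⟩

  have hnd : ∀ l : List α, l.Nodup →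
      ((none : GolayPt) :: some 0 :: l.map fun x => c.e (some (some x))).Nodup := by
    intro l hl
    rw [List.nodup_cons, List.nodup_cons, List.mem_cons]
    refine ⟨?_, fun h => ?_, hl.map fun a b h => Option.some_injective _ (Option.some_injective _ (c.e.injective h))⟩
    · rintro (h | h)
      · exact Option.some_ne_none _ h.symm
      · obtain ⟨x, -, hx⟩ := List.mem_map.1 h
        exact (hι x).1 hx
    · obtain ⟨x, -, hx⟩ := List.mem_map.1 h
      exact (hι x).2 hx
  obtain ⟨σ, hσ, hm⟩ := Golay.exists_map_M24 (hnd xs hx) (hnd ys hy) (by simp [hlen]) (by simp; omega)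
  rw [List.map_cons, List.map_cons, List.cons_eq_cons, List.cons_eq_cons, List.map_map] at hm
  have hfix : σ ∈ Golay.fixPts M24 [some 0, none] := Golay.mem_fixPts.2 ⟨hσ, by simp [hm.1, hm.2.1]⟩
  refine ⟨φ.symm ⟨σ, Golay.DerivedPair.fix2_le_pairStab hfix⟩, ?_, ?_⟩
  · simp only [evenAut, Subgroup.mem_comap, MulEquiv.coe_toMonoidHom, MulEquiv.apply_symm_apply,
      Subgroup.mem_subgroupOf]
    exact hfix
  · refine List.map_injective_iff.2 (fun a b h => Option.some_injective _ (Option.some_injective _
      (c.e.injective h)) : Function.Injective fun x => c.e (some (some x))) ?_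
    rw [List.map_map, ← hm.2.2]
    refine List.map_congr_left fun x _ => ?_
    show c.e (some (some _)) = σ (c.e (some (some x)))
    rw [← hφ, MulEquiv.apply_symm_apply]


/-- The automorphism group of the graph contains a simple subgroup of order 44352000. -/
theorem exists_hs (hα : Fintype.card α = 22) (hB : IsSteinerSystem 3 6 B) :
    ∃ H : Subgroup (pointBlockGraph B ≃g pointBlockGraph B), IsHS H := by
  classical
  have hne : ∀ b ∈ B, b.Nonempty := fun b hb => Finset.card_pos.1 (by rw [hB.1 b hb]; norm_num)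
  have := Fintype.ofFinite B
  have hsrg := BlockGraph.pointBlockGraph_srg hα hB
  obtain ⟨c, φ, hφ⟩ := Golay.DerivedPair.exists_aut_equiv hα hB
  set g₀ := φ.symm ⟨projInv, Golay.DerivedPair.projInv_mem_pairStab⟩ with hg₀
  have hsgn : Equiv.Perm.sign (onVtx g₀) = -1 := sign_outer hα hB hφ
  -- the simple point stabiliser
  let S₀ : Subgroup (setSystemAut B) := evenAut (c := c) φ
  have hS₀equiv : Nonempty (S₀ ≃* Golay.fixPts M24 [some 0, none]) :=
    ⟨((MulEquiv.subgroupMap φ S₀).trans (MulEquiv.subgroupCongr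
      (Subgroup.map_comap_eq_self_of_surjective φ.surjective _))).trans
      (Subgroup.subgroupOfEquivOfLe Golay.DerivedPair.fix2_le_pairStab)⟩
  obtain ⟨eS⟩ := hS₀equiv
  have hsimpS : IsSimpleGroup S₀ := (MulEquiv.isSimpleGroup_congr eS).2 Golay.isSimple_fix2
  have hS₀card : Nat.card S₀ = 443520 := by rw [Nat.card_congr eS.toEquiv, Golay.card_fix2]
  have heven : ∀ g ∈ S₀, Equiv.Perm.sign (onVtx g) = 1 := by
    intro g hg
    let χ : S₀ →* ℤˣ := (Equiv.Perm.sign.comp onVtx).comp S₀.subtype
    rcases hsimpS.eq_bot_or_eq_top_of_normal χ.ker inferInstance with h | h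
    · exfalso
      have hc := Nat.card_le_card_of_injective χ ((MonoidHom.ker_eq_bot_iff χ).1 h)
      rw [hS₀card, Nat.card_eq_fintype_card, Fintype.card_units_int] at hc
      omega
    · exact (h ▸ Subgroup.mem_top _ : (⟨g, hg⟩ : S₀) ∈ χ.ker)
  let G : Subgroup (Equiv.Perm (Vtx B)) := autPerm B ⊓ (Equiv.Perm.sign : Equiv.Perm (Vtx B) →* ℤˣ).ker
  have hg₀mem : onVtx g₀ ∈ autPerm B := onVtx_mem hne g₀
  have htr : MulAction.IsPretransitive G (Vtx B) := by
    have h0 : ∀ u, ∃ f : G, f • (none : Vtx B) = u := by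
      intro u
      obtain ⟨ψ, hψ⟩ := SRGHigmanSims.exists_iso hsrg hsrg none u
      have hf : (autEquiv B ψ : Equiv.Perm (Vtx B)) none = u := hψ
      rcases Int.units_eq_one_or (Equiv.Perm.sign (autEquiv B ψ : Equiv.Perm (Vtx B))) with h | h
      · exact ⟨⟨_, (autEquiv B ψ).2, h⟩, hf⟩
      · refine ⟨⟨_, mul_mem (autEquiv B ψ).2 hg₀mem, ?_⟩, hf⟩
        show Equiv.Perm.sign _ = 1
        rw [map_mul, h, hsgn]; rfl
    refine ⟨fun u v => ?_⟩
    obtain ⟨f, rfl⟩ := h0 u
    obtain ⟨f', rfl⟩ := h0 v
    exact ⟨f' * f⁻¹, by rw [mul_smul, inv_smul_smul]⟩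
  have hstab : ∀ s : MulAction.stabilizer G (none : Vtx B), ∃ g ∈ S₀, onVtx g = (s : G).1 := by
    intro s
    obtain ⟨g, hg⟩ := exists_onVtx hne (s : G).2.1 s.2
    refine ⟨g, ?_, hg⟩
    by_contra hgS
    have hi := Subgroup.index_eq_two_iff.1
      ((Subgroup.index_comap_of_surjective _ φ.surjective).trans Golay.DerivedPair.index_fix2 : S₀.index = 2)
    obtain ⟨t, ht⟩ := hi
    have hprod : g * g₀ ∈ S₀ := by
      have hg₀S : g₀ ∉ S₀ := fun h => by
        have h' := heven g₀ h
        rw [hsgn] at h'; exact absurd h' (by decide)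
      have hiff := Subgroup.mul_mem_iff_of_index_two
        ((Subgroup.index_comap_of_surjective _ φ.surjective).trans Golay.DerivedPair.index_fix2 :
          S₀.index = 2) (a := g) (b := g₀)
      exact hiff.2 (iff_of_false hgS hg₀S)
    have h1 := heven _ hprod
    rw [map_mul, map_mul, hsgn, hg] at h1
    have h2 : Equiv.Perm.sign ((s : G).1) = 1 := (s : G).2.2
    rw [h2] at h1
    exact absurd h1 (by decide)
  have hSmem : ∀ g ∈ S₀, onVtx g ∈ G := fun g hg => ⟨onVtx_mem hne g, heven g hg⟩
  have hequiv : ∃ e : S₀ ≃* MulAction.stabilizer G (none : Vtx B),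
      ∀ g : S₀, (e g : G).1 = onVtx g.1 := by
    let f : S₀ →* MulAction.stabilizer G (none : Vtx B) :=
      { toFun := fun g => ⟨⟨onVtx g.1, hSmem g.1 g.2⟩, onVtx_none g.1⟩
        map_one' := Subtype.ext (Subtype.ext (map_one onVtx))
        map_mul' := fun g h => Subtype.ext (Subtype.ext (map_mul onVtx g.1 h.1)) }
    refine ⟨MulEquiv.ofBijective f ⟨fun g h e => Subtype.ext (onVtx_injective
      (congrArg (fun z : MulAction.stabilizer G (none : Vtx B) => (z : G).1) e)), fun s => ?_⟩, fun _ => rfl⟩
    obtain ⟨g, hg, hgs⟩ := hstab s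
    exact ⟨⟨g, hg⟩, Subtype.ext (Subtype.ext hgs)⟩
  obtain ⟨eG, heG⟩ := hequiv
  -- transitivity of the stabiliser on points and on blocks
  have hpts := evenAut_trans hα hB hφ
  have hblk : ∀ b d : B, ∃ g ∈ S₀, onVtx g (some (Sum.inr b)) = some (Sum.inr d) := by
    intro b d
    obtain ⟨s, hs, hsc⟩ := Finset.exists_subset_card_eq (s := b.1) (n := 3) (by rw [hB.1 _ b.2]; norm_num)
    obtain ⟨t, ht, htc⟩ := Finset.exists_subset_card_eq (s := d.1) (n := 3) (by rw [hB.1 _ d.2]; norm_num)
    obtain ⟨g, hg, hgm⟩ := hpts s.toList t.toList s.nodup_toList t.nodup_toList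
      (by simp [hsc, htc]) (by simp [hsc])
    refine ⟨g, hg, ?_⟩
    rw [onVtx_inr]
    refine congrArg (fun z => some (Sum.inr z)) (Subtype.ext ?_)
    refine (hB.2 t htc).unique ⟨(MulAction.mem_stabilizer_set.1 g.2 b.1).2 b.2, ?_⟩ ⟨d.2, ht⟩
    intro y hy
    rw [← Finset.mem_toList, ← hgm, List.mem_map] at hy
    obtain ⟨x, hx, rfl⟩ := hy
    exact Finset.smul_mem_smul_finset (hs (Finset.mem_toList.1 hx))
  have hinv : ∀ O : Set (Vtx B), none ∈ O →
      (∀ s : MulAction.stabilizer G (none : Vtx B), ∀ u ∈ O, (s : G) • u ∈ O) →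
      O.ncard = 1 ∨ O.ncard = 23 ∨ O.ncard = 78 ∨ O.ncard = 100 := by
    intro O h0 hO
    have hstep : ∀ g ∈ S₀, ∀ u ∈ O, onVtx g u ∈ O := fun g hg u hu => hO (eG ⟨g, hg⟩) u hu |> fun h => by
      have e : ((eG ⟨g, hg⟩ : MulAction.stabilizer G (none : Vtx B)) : G).1 = onVtx g := heG ⟨g, hg⟩
      simpa [Subgroup.smul_def, e] using h
    by_cases hL : ∃ x, some (Sum.inl x) ∈ O <;> by_cases hR : ∃ b, some (Sum.inr b) ∈ O
    · right; right; right
      have : O = Set.univ := by
        rw [Set.eq_univ_iff_forall]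
        rintro (_ | x | b)
        · exact h0
        · obtain ⟨x₀, hx₀⟩ := hL
          obtain ⟨g, hg, hgm⟩ := hpts [x₀] [x] (by simp) (by simp) rfl (by simp)
          simpa [onVtx_inl, List.cons.inj hgm] using hstep g hg _ hx₀
        · obtain ⟨b₀, hb₀⟩ := hR
          obtain ⟨g, hg, hgm⟩ := hblk b₀ b
          have h' := hstep g hg _ hb₀; rw [hgm] at h'; exact h'
      rw [this, Set.ncard_univ, Nat.card_eq_fintype_card, hsrg.card]
    · right; left
      have : O = insert none (Set.range fun x : α => (some (Sum.inl x) : Vtx B)) := by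
        refine Set.Subset.antisymm ?_ ?_
        · rintro (_ | x | b) hu
          · exact Set.mem_insert _ _
          · exact Set.mem_insert_of_mem _ ⟨x, rfl⟩
          · exact absurd ⟨b, hu⟩ hR
        · rintro _ (rfl | ⟨x, rfl⟩)
          · exact h0
          · obtain ⟨x₀, hx₀⟩ := hL
            obtain ⟨g, hg, hgm⟩ := hpts [x₀] [x] (by simp) (by simp) rfl (by simp)
            simpa [onVtx_inl, List.cons.inj hgm] using hstep g hg _ hx₀
      rw [this, Set.ncard_insert_of_notMem (by simp) (Set.toFinite _),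
        Set.ncard_range_of_injective fun a b h => by simpa using h, Nat.card_eq_fintype_card, hα]
    · right; right; left
      have : O = insert none (Set.range fun b : B => (some (Sum.inr b) : Vtx B)) := by
        refine Set.Subset.antisymm ?_ ?_
        · rintro (_ | x | b) hu
          · exact Set.mem_insert _ _
          · exact absurd ⟨x, hu⟩ hL
          · exact Set.mem_insert_of_mem _ ⟨b, rfl⟩
        · rintro _ (rfl | ⟨b, rfl⟩)
          · exact h0
          · obtain ⟨b₀, hb₀⟩ := hR
            obtain ⟨g, hg, hgm⟩ := hblk b₀ b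
            have h' := hstep g hg _ hb₀; rw [hgm] at h'; exact h'
      have h77 : Fintype.card B = 77 := by
        have h := hsrg.card
        rw [Fintype.card_option, Fintype.card_sum, hα] at h
        omega
      rw [this, Set.ncard_insert_of_notMem (by simp) (Set.toFinite _),
        Set.ncard_range_of_injective fun a b h => by simpa using h, Nat.card_eq_fintype_card, h77]
    · left
      rw [Set.ncard_eq_one]
      refine ⟨none, Set.eq_singleton_iff_unique_mem.2 ⟨h0, ?_⟩⟩
      rintro (_ | x | b) hu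
      · rfl
      · exact absurd ⟨x, hu⟩ hL
      · exact absurd ⟨b, hu⟩ hR
  have hX : Nat.card (Vtx B) = 100 := by rw [Nat.card_eq_fintype_card, hsrg.card]
  have hsimpG : IsSimpleGroup G :=
    simple_of_suborbits hX G none ((MulEquiv.isSimpleGroup_congr eG).1 hsimpS) hinv
  have hcardG : Nat.card G = 44352000 := by
    have h := Subgroup.card_mul_index (MulAction.stabilizer G (none : Vtx B))
    rw [MulAction.index_stabilizer_of_transitive, hX, ← Nat.card_congr eG.toEquiv, hS₀card] at h
    omega
  refine ⟨(G.subgroupOf (autPerm B)).comap (autEquiv B).toMonoidHom, ?_⟩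
  let e : (G.subgroupOf (autPerm B)).comap (autEquiv B).toMonoidHom ≃* G :=
    ((MulEquiv.subgroupMap (autEquiv B) _).trans (MulEquiv.subgroupCongr
      (Subgroup.map_comap_eq_self_of_surjective (autEquiv B).surjective _))).trans
      (Subgroup.subgroupOfEquivOfLe inf_le_left)
  exact ⟨(MulEquiv.isSimpleGroup_congr e).2 hsimpG, (Nat.card_congr e.toEquiv).trans hcardG⟩

end CfsgLib.Steiner.HSGraph
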