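import Cfsg.Agent.Lib.Steiner.BlockGraph
import Cfsg.Agent.Lib.Golay.DerivedPair
import Mathlib.Combinatorics.SimpleGraph.StronglyRegular
import Mathlib.Combinatorics.Enumerative.DoubleCounting

/-! A strongly regular graph (100, 22, 0, 6) is the point-block graph of an S(3,6,22). -/

set_option autoImplicit false

namespace CfsgLib.Steiner.SRGHigmanSims

open Cfsg

section Recognise

variable {V : Type*} [Fintype V] [DecidableEq V] {G : SimpleGraph V} [DecidableRel G.Adj]

theorem nbr_card (h : G.IsSRGWith 100 22 0 6) (v : V) :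
    (Finset.univ.filter fun u => G.Adj v u).card = 22 := by
  rw [← h.regular v, ← SimpleGraph.card_neighborFinset_eq_degree]
  congr 1
  ext u; simp

theorem common_card (h : G.IsSRGWith 100 22 0 6) {v w : V} (hne : v ≠ w) :
    (Finset.univ.filter fun u => G.Adj v u ∧ G.Adj w u).card = if G.Adj v w then 0 else 6 := by
  have e : (Finset.univ.filter fun u => G.Adj v u ∧ G.Adj w u).card =
      Fintype.card (G.commonNeighbors v w) := by
    rw [← Fintype.card_coe]
    exact Fintype.card_congr (Equiv.subtypeEquivRight fun u => by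
      simp [SimpleGraph.mem_commonNeighbors])
  rw [e]
  split
  · exact h.of_adj v w ‹_›
  · exact h.of_not_adj hne ‹_›

theorem no_triangle (h : G.IsSRGWith 100 22 0 6) {a b c : V} (hab : G.Adj a b) (hac : G.Adj a c) :
    ¬ G.Adj b c := by
  intro hbc
  have h0 := common_card h hab.ne
  rw [if_pos hab, Finset.card_eq_zero] at h0
  exact Finset.notMem_empty c (h0 ▸ Finset.mem_filter.2 ⟨Finset.mem_univ c, hac, hbc⟩)

theorem common_out (h : G.IsSRGWith 100 22 0 6) {x v a b : V} (hxa : G.Adj x a) (hxb : G.Adj x b)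
    (hva : G.Adj v a) (hvb : G.Adj v b) (hab : a ≠ b) (hvx : v ≠ x) :
    ((Finset.univ.filter fun u => u ≠ x ∧ u ≠ v ∧ ¬ G.Adj x u).filter
      fun u => G.Adj a u ∧ G.Adj b u).card = 4 := by
  have h6 := common_card h hab
  rw [if_neg (no_triangle h hxa hxb)] at h6
  have e : (Finset.univ.filter fun u => G.Adj a u ∧ G.Adj b u) =
      insert x (insert v ((Finset.univ.filter fun u => u ≠ x ∧ u ≠ v ∧ ¬ G.Adj x u).filter
        fun u => G.Adj a u ∧ G.Adj b u)) := by
    ext u
    simp only [Finset.mem_filter, Finset.mem_univ, true_and, Finset.mem_insert]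
    constructor
    · intro hu
      by_cases h1 : u = x
      · exact Or.inl h1
      by_cases h2 : u = v
      · exact Or.inr (Or.inl h2)
      exact Or.inr (Or.inr ⟨⟨h1, h2, fun hxu => no_triangle h hxa hxu hu.1⟩, hu⟩)
    · rintro (rfl | rfl | h')
      · exact ⟨hxa.symm, hxb.symm⟩
      · exact ⟨hva.symm, hvb.symm⟩
      · exact h'.2
  rw [e, Finset.card_insert_of_notMem (by simp [Ne.symm hvx]),
    Finset.card_insert_of_notMem (by simp)] at h6
  omega

theorem point_out (h : G.IsSRGWith 100 22 0 6) {x v a : V} (hxa : G.Adj x a) (hva : G.Adj v a)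
    (hvx : v ≠ x) :
    ((Finset.univ.filter fun u => u ≠ x ∧ u ≠ v ∧ ¬ G.Adj x u).filter fun u => G.Adj a u).card = 20 := by
  have h22 := nbr_card h a
  have e : (Finset.univ.filter fun u => G.Adj a u) =
      insert x (insert v ((Finset.univ.filter fun u => u ≠ x ∧ u ≠ v ∧ ¬ G.Adj x u).filter
        fun u => G.Adj a u)) := by
    ext u
    simp only [Finset.mem_filter, Finset.mem_univ, true_and, Finset.mem_insert]
    constructor
    · intro hu
      by_cases h1 : u = x
      · exact Or.inl h1
      by_cases h2 : u = v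
      · exact Or.inr (Or.inl h2)
      exact Or.inr (Or.inr ⟨⟨h1, h2, fun hxu => no_triangle h hxa hxu hu⟩, hu⟩)
    · rintro (rfl | rfl | h')
      · exact hxa.symm
      · exact hva.symm
      · exact h'.2
  rw [e, Finset.card_insert_of_notMem (by simp [Ne.symm hvx]),
    Finset.card_insert_of_notMem (by simp)] at h22
  omega

/-- The common neighbours of the base vertex and a vertex. -/
def blk (G : SimpleGraph V) [DecidableRel G.Adj] (x v : V) : Finset V :=
  Finset.univ.filter fun u => G.Adj x u ∧ G.Adj v u

theorem mem_blk {x v u : V} : u ∈ blk G x v ↔ G.Adj x u ∧ G.Adj v u := by simp [blk]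

theorem blk_card (h : G.IsSRGWith 100 22 0 6) {x v : V} (hvx : v ≠ x) (hxv : ¬ G.Adj x v) :
    (blk G x v).card = 6 := by
  have h6 := common_card h (Ne.symm hvx)
  rw [if_neg hxv] at h6
  exact h6

theorem inter_eq (h : G.IsSRGWith 100 22 0 6) {x v w : V} (hvx : v ≠ x) (hxv : ¬ G.Adj x v)
    (hwx : w ≠ x) (hxw : ¬ G.Adj x w) (hwv : w ≠ v) :
    (blk G x v ∩ blk G x w).card = if G.Adj v w then 0 else 2 := by
  have hadj0 : ∀ u, G.Adj v u → (blk G x v ∩ blk G x u).card = 0 := by
    intro u hu
    rw [Finset.card_eq_zero, ← Finset.not_nonempty_iff_eq_empty]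
    rintro ⟨a, ha⟩
    rw [Finset.mem_inter, mem_blk, mem_blk] at ha
    exact no_triangle h hu ha.1.2 ha.2.2
  split
  · exact hadj0 w ‹_›
  rename_i hvw
  set N := Finset.univ.filter fun u => u ≠ x ∧ u ≠ v ∧ ¬ G.Adj x u with hN
  set f := fun u => (blk G x v ∩ blk G x u).card with hf
  have hfeq : ∀ u, blk G x v ∩ blk G x u = (blk G x v).filter fun a => G.Adj a u := by
    intro u
    ext a
    simp only [Finset.mem_inter, mem_blk, Finset.mem_filter, SimpleGraph.adj_comm G a u]
    tauto
  have hsum1 : ∑ u ∈ N, f u = 120 := by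
    have := Finset.sum_card_bipartiteAbove_eq_sum_card_bipartiteBelow
      (s := N) (t := blk G x v) (r := fun u a => G.Adj a u)
    simp only [Finset.bipartiteAbove, Finset.bipartiteBelow] at this
    rw [Finset.sum_congr rfl fun u _ => show f u = _ from congrArg Finset.card (hfeq u), this,
      Finset.sum_congr rfl fun a ha => point_out h (mem_blk.1 ha).1 (mem_blk.1 ha).2 hvx,
      Finset.sum_const, blk_card h hvx hxv]
    rfl
  have hsum2 : ∑ u ∈ N, (f u * f u - f u) = 120 := by
    have := Finset.sum_card_bipartiteAbove_eq_sum_card_bipartiteBelow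
      (s := N) (t := (blk G x v).offDiag) (r := fun u p => G.Adj p.1 u ∧ G.Adj p.2 u)
    simp only [Finset.bipartiteAbove, Finset.bipartiteBelow] at this
    have e : ∀ u, f u * f u - f u =
        ((blk G x v).offDiag.filter fun p => G.Adj p.1 u ∧ G.Adj p.2 u).card := by
      intro u
      rw [show f u = _ from congrArg Finset.card (hfeq u), ← Finset.offDiag_card]
      congr 1
      ext p
      simp only [Finset.mem_offDiag, Finset.mem_filter]
      tauto
    rw [Finset.sum_congr rfl fun u _ => e u, this,
      Finset.sum_congr rfl fun p hp => common_out h (mem_blk.1 (Finset.mem_offDiag.1 hp).1).1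
        (mem_blk.1 (Finset.mem_offDiag.1 hp).2.1).1 (mem_blk.1 (Finset.mem_offDiag.1 hp).1).2
        (mem_blk.1 (Finset.mem_offDiag.1 hp).2.1).2 (Finset.mem_offDiag.1 hp).2.2 hvx,
      Finset.sum_const, Finset.offDiag_card, blk_card h hvx hxv]
    rfl
  have hNcard : N.card = 76 := by
    have hall := h.card
    have e : (Finset.univ : Finset V) = insert x (insert v (N ∪ Finset.univ.filter fun u => G.Adj x u)) := by
      ext u
      simp only [hN, Finset.mem_univ, Finset.mem_insert, Finset.mem_union, Finset.mem_filter, true_and,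
        true_iff]
      tauto
    rw [← Finset.card_univ, e, Finset.card_insert_of_notMem (by simp [hN, Ne.symm hvx]),
      Finset.card_insert_of_notMem (by simp [hN, hxv]), Finset.card_union_of_disjoint
        (Finset.disjoint_left.2 fun u hu hu' => (Finset.mem_filter.1 hu).2.2.2 (Finset.mem_filter.1 hu').2),
      nbr_card h x] at hall
    omega
  have hAcard : (N.filter fun u => G.Adj v u).card = 16 := by
    have h22 := nbr_card h v
    have e : (Finset.univ.filter fun u => G.Adj v u) = (N.filter fun u => G.Adj v u) ∪ blk G x v := by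
      ext u
      simp only [hN, Finset.mem_filter, Finset.mem_univ, true_and, Finset.mem_union, mem_blk]
      constructor
      · intro hu
        by_cases hxu : G.Adj x u
        · exact Or.inr ⟨hxu, hu⟩
        · exact Or.inl ⟨⟨fun e => hxv (e ▸ hu).symm, hu.ne', hxu⟩, hu⟩
      · rintro (h' | h') <;> exact h'.2
    rw [e, Finset.card_union_of_disjoint (Finset.disjoint_left.2 fun u hu hu' => by
      simp only [hN, Finset.mem_filter, mem_blk] at hu hu'; exact hu.1.2.2.2 hu'.1),
      blk_card h hvx hxv] at h22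
    omega
  have key : ∑ u ∈ N.filter (fun u => ¬ G.Adj v u), ((f u : ℤ) - 2) ^ 2 = 0 := by
    have hz : ∀ g : ℕ → ℤ, g 0 = 0 →
        ∑ u ∈ N.filter (fun u => ¬ G.Adj v u), g (f u) = ∑ u ∈ N, g (f u) := by
      intro g hg
      refine Finset.sum_filter_of_ne fun u _ hu hadj => hu ?_
      rw [show f u = 0 from hadj0 u hadj, hg]
    have h1 : ∑ u ∈ N, (f u : ℤ) = 120 := by rw [← Nat.cast_sum, hsum1]; rfl
    have h2 : ∑ u ∈ N, ((f u : ℤ) * f u - f u) = 120 := by
      rw [Finset.sum_congr rfl fun u _ => show (f u : ℤ) * f u - f u = ((f u * f u - f u : ℕ) : ℤ) by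
        rw [Nat.cast_sub (Nat.le_mul_self _), Nat.cast_mul], ← Nat.cast_sum, hsum2]
      rfl
    have h60 : (N.filter fun u => ¬ G.Adj v u).card = 60 := by
      have := Finset.card_filter_add_card_filter_not (s := N) (fun u => G.Adj v u)
      omega
    have e : ∀ u, ((f u : ℤ) - 2) ^ 2 = ((f u : ℤ) * f u - f u) - 3 * f u + 4 := fun u => by ring
    rw [Finset.sum_congr rfl fun u _ => e u, Finset.sum_add_distrib, Finset.sum_sub_distrib,
      hz (fun n => (n : ℤ) * n - n) rfl, ← Finset.mul_sum, hz (fun n => (n : ℤ)) rfl, h1, h2,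
      Finset.sum_const, h60]
    rfl
  have := (Finset.sum_eq_zero_iff_of_nonneg fun u _ => sq_nonneg _).1 key w
    (by simp [hN, hwx, hwv, hxw, hvw])
  have h0 : (f w : ℤ) - 2 = 0 := (sq_eq_zero_iff).1 this
  show f w = 2
  omega

variable (G) in
/-- The vertices not adjacent to and different from the base vertex. -/
abbrev Far (x : V) := {v : V // v ≠ x ∧ ¬ G.Adj x v}

variable (G) in
/-- The block of a far vertex, inside the neighbours of the base vertex. -/
def block (x : V) (v : Far G x) : Finset {a : V // G.Adj x a} :=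
  Finset.univ.filter fun a => G.Adj v.1 a.1

theorem map_block (x : V) (v : Far G x) :
    (block G x v).map (Function.Embedding.subtype _) = blk G x v.1 := by
  ext u
  simp [block, blk, Finset.mem_map, and_comm]

theorem block_card (h : G.IsSRGWith 100 22 0 6) {x : V} (v : Far G x) : (block G x v).card = 6 := by
  rw [← Finset.card_map (Function.Embedding.subtype _), map_block, blk_card h v.2.1 v.2.2]

theorem block_inter (h : G.IsSRGWith 100 22 0 6) {x : V} {v w : Far G x} (hne : v ≠ w) :
    (block G x v ∩ block G x w).card = if G.Adj v.1 w.1 then 0 else 2 := by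
  rw [← Finset.card_map (Function.Embedding.subtype _), Finset.map_inter, map_block, map_block]
  exact inter_eq h v.2.1 v.2.2 w.2.1 w.2.2 fun e => hne (Subtype.ext e.symm)

theorem block_injective (h : G.IsSRGWith 100 22 0 6) (x : V) : Function.Injective (block G x) := by
  intro v w hvw
  by_contra hne
  have := block_inter h hne
  rw [hvw, Finset.inter_self, block_card h] at this
  split at this <;> omega

theorem card_points (h : G.IsSRGWith 100 22 0 6) (x : V) : Fintype.card {a : V // G.Adj x a} = 22 := by
  rw [Fintype.card_subtype, nbr_card h]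

theorem card_far (h : G.IsSRGWith 100 22 0 6) (x : V) : Fintype.card (Far G x) = 77 := by
  rw [Fintype.card_subtype]
  have hall := h.card
  have e : (Finset.univ : Finset V) = insert x ((Finset.univ.filter fun v => v ≠ x ∧ ¬ G.Adj x v) ∪
      Finset.univ.filter fun u => G.Adj x u) := by
    ext u
    simp only [Finset.mem_univ, Finset.mem_insert, Finset.mem_union, Finset.mem_filter, true_and, true_iff]
    tauto
  rw [← Finset.card_univ, e, Finset.card_insert_of_notMem (by simp),
    Finset.card_union_of_disjoint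
      (Finset.disjoint_left.2 fun u hu hu' => (Finset.mem_filter.1 hu).2.2 (Finset.mem_filter.1 hu').2),
    nbr_card h] at hall
  omega

theorem isSteiner (h : G.IsSRGWith 100 22 0 6) (x : V) :
    IsSteinerSystem 3 6 (Set.range (block G x)) := by
  refine ⟨by rintro _ ⟨v, rfl⟩; exact block_card h v, fun s hs => ?_⟩
  have huniq : ∀ v w : Far G x, ∀ t : Finset {a : V // G.Adj x a}, t.card = 3 →
      t ⊆ block G x v → t ⊆ block G x w → v = w := by
    intro v w t ht hv hw
    by_contra hne
    have h1 := block_inter h hne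
    have h2 := Finset.card_le_card (Finset.subset_inter hv hw)
    split at h1 <;> omega
  have hcount : ((Finset.univ : Finset (Far G x)).biUnion fun v => (block G x v).powersetCard 3) =
      Finset.univ.powersetCard 3 := by
    refine Finset.eq_of_subset_of_card_le (fun t ht => ?_) (le_of_eq ?_)
    · obtain ⟨v, -, hv⟩ := Finset.mem_biUnion.1 ht
      exact Finset.mem_powersetCard.2 ⟨Finset.subset_univ t, (Finset.mem_powersetCard.1 hv).2⟩
    rw [Finset.card_powersetCard, Finset.card_univ, card_points h x, Finset.card_biUnion]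
    · rw [Finset.sum_congr rfl fun v _ => (by rw [Finset.card_powersetCard, block_card h] :
        ((block G x v).powersetCard 3).card = Nat.choose 6 3), Finset.sum_const, Finset.card_univ,
        card_far h x]
      rfl
    · intro v _ w _ hvw
      refine Finset.disjoint_left.2 fun t hv hw => hvw ?_
      obtain ⟨hv1, hv2⟩ := Finset.mem_powersetCard.1 hv
      exact huniq v w t hv2 hv1 (Finset.mem_powersetCard.1 hw).1
  have hmem : s ∈ (Finset.univ : Finset {a : V // G.Adj x a}).powersetCard 3 :=
    Finset.mem_powersetCard.2 ⟨Finset.subset_univ s, hs⟩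
  rw [← hcount] at hmem
  obtain ⟨v, -, hv⟩ := Finset.mem_biUnion.1 hmem
  obtain ⟨hv1, -⟩ := Finset.mem_powersetCard.1 hv
  refine ⟨block G x v, ⟨⟨v, rfl⟩, hv1⟩, ?_⟩
  rintro _ ⟨⟨w, rfl⟩, hw⟩
  rw [huniq w v s hs hw hv1]

/-- The graph is the point-block graph of its system of blocks. -/
theorem exists_iso_pointBlock (h : G.IsSRGWith 100 22 0 6) (x : V) :
    ∃ φ : pointBlockGraph (Set.range (block G x)) ≃g G, φ none = x := by
  let eB : Far G x ≃ Set.range (block G x) := Equiv.ofInjective _ (block_injective h x)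
  let f : Option ({a : V // G.Adj x a} ⊕ Set.range (block G x)) → V
    | none => x
    | some (Sum.inl a) => a.1
    | some (Sum.inr b) => (eB.symm b).1
  have hfb : Function.Bijective f := by
    constructor
    · rintro (_ | a | b) (_ | a' | b') e <;> simp only [f] at e
      · rfl
      · exact absurd e a'.2.ne
      · exact absurd e.symm (eB.symm b').2.1
      · exact absurd e.symm a.2.ne
      · rw [Subtype.ext e]
      · exact absurd (e ▸ a.2) (eB.symm b').2.2
      · exact absurd e (eB.symm b).2.1
      · exact absurd (e ▸ a'.2) (eB.symm b).2.2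
      · rw [eB.symm.injective (Subtype.ext e)]
    · intro u
      by_cases h1 : u = x
      · exact ⟨none, h1.symm⟩
      by_cases h2 : G.Adj x u
      · exact ⟨some (Sum.inl ⟨u, h2⟩), rfl⟩
      · refine ⟨some (Sum.inr (eB ⟨u, h1, h2⟩)), ?_⟩
        show (eB.symm (eB _)).1 = u
        rw [Equiv.symm_apply_apply]
  have hne : ∀ b ∈ Set.range (block G x), b.Nonempty := by
    rintro _ ⟨v, rfl⟩
    exact Finset.card_pos.1 (by rw [block_card h]; norm_num)
  have hb : ∀ v : Far G x, ((eB v : Set.range (block G x)) : Finset _) = block G x v := fun _ => rfl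
  have hab : ∀ (a : {a : V // G.Adj x a}) (v : Far G x),
      G.Adj a.1 v.1 ↔ a ∈ block G x v := fun a v => by simp [block, SimpleGraph.adj_comm]
  have hbb : ∀ v w : Far G x, G.Adj v.1 w.1 ↔ Disjoint (block G x v) (block G x w) := by
    intro v w
    rw [Finset.disjoint_iff_inter_eq_empty, ← Finset.card_eq_zero]
    rcases eq_or_ne v w with rfl | hvw
    · simp [block_card h]
    · rw [block_inter h hvw]
      split <;> simp_all
  refine ⟨⟨Equiv.ofBijective f hfb, fun {u w} => ?_⟩, rfl⟩
  show G.Adj (f u) (f w) ↔ _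
  rcases u with _ | a | b <;> rcases w with _ | a' | b'
  · simp [f]
  · simp only [f]; exact iff_of_true a'.2 (BlockGraph.point_none_inl a')
  · simp only [f]; exact iff_of_false (eB.symm b').2.2 (BlockGraph.not_none_inr b')
  · simp only [f]; exact iff_of_true a.2.symm (BlockGraph.point_none_inl a).symm
  · simp only [f]; exact iff_of_false (no_triangle h a.2 a'.2) (BlockGraph.not_inl_inl a a')
  · simp only [f]
    obtain ⟨v, rfl⟩ := eB.surjective b'
    rw [Equiv.symm_apply_apply, BlockGraph.inl_inr, hb, hab]
  · simp only [f]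
    exact iff_of_false (fun e => (eB.symm b).2.2 e.symm) fun e => BlockGraph.not_none_inr b e.symm
  · simp only [f]
    obtain ⟨v, rfl⟩ := eB.surjective b
    rw [Equiv.symm_apply_apply, SimpleGraph.adj_comm _ (some (Sum.inr (eB v))), BlockGraph.inl_inr,
      hb, SimpleGraph.adj_comm, hab]
  · simp only [f]
    obtain ⟨v, rfl⟩ := eB.surjective b
    obtain ⟨w, rfl⟩ := eB.surjective b'
    rw [Equiv.symm_apply_apply, Equiv.symm_apply_apply, BlockGraph.inr_inr hne, hb, hb, hbb]

end Recognise

/-- Isomorphic systems have isomorphic point-block graphs. -/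
theorem pointBlock_iso {α β : Type*} [DecidableEq β] {B : Set (Finset α)} {B' : Set (Finset β)}
    (hB : ∀ b ∈ B, b.Nonempty) (e : α ≃ β) (he : (fun b => b.image e) '' B = B') :
    ∃ φ : pointBlockGraph B ≃g pointBlockGraph B', φ none = none := by
  have hB' : ∀ b ∈ B', b.Nonempty := by
    rw [← he]; rintro _ ⟨b, hb, rfl⟩; exact (hB b hb).image e
  let g : B → B' := fun b => ⟨b.1.image e, he ▸ Set.mem_image_of_mem _ b.2⟩
  have hg : Function.Bijective g := by
    refine ⟨fun b c hbc => Subtype.ext (Finset.image_injective e.injective (congrArg Subtype.val hbc)), ?_⟩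
    rintro ⟨b', hb'⟩
    rw [← he] at hb'
    obtain ⟨b, hb, rfl⟩ := hb'
    exact ⟨⟨b, hb⟩, rfl⟩
  refine ⟨⟨Equiv.optionCongr (Equiv.sumCongr e (Equiv.ofBijective g hg)), fun {u w} => ?_⟩, rfl⟩
  rcases u with _ | a | b <;> rcases w with _ | a' | b' <;>
    simp only [Equiv.optionCongr_apply, Option.map_none, Option.map_some, Equiv.sumCongr_apply,
      Sum.map_inl, Sum.map_inr, Equiv.ofBijective_apply]
  · simp
  · exact iff_of_true (BlockGraph.point_none_inl _) (BlockGraph.point_none_inl _)
  · exact iff_of_false (BlockGraph.not_none_inr _) (BlockGraph.not_none_inr _)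
  · exact iff_of_true (BlockGraph.point_none_inl _).symm (BlockGraph.point_none_inl _).symm
  · exact iff_of_false (BlockGraph.not_inl_inl _ _) (BlockGraph.not_inl_inl _ _)
  · rw [BlockGraph.inl_inr, BlockGraph.inl_inr]
    exact Finset.mem_image.trans ⟨fun ⟨_, hc, hce⟩ => e.injective hce ▸ hc, fun hc => ⟨_, hc, rfl⟩⟩
  · exact iff_of_false (fun h => BlockGraph.not_none_inr _ h.symm)
      (fun h => BlockGraph.not_none_inr _ h.symm)
  · rw [SimpleGraph.adj_comm, BlockGraph.inl_inr, SimpleGraph.adj_comm, BlockGraph.inl_inr]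
    exact Finset.mem_image.trans ⟨fun ⟨_, hc, hce⟩ => e.injective hce ▸ hc, fun hc => ⟨_, hc, rfl⟩⟩
  · rw [BlockGraph.inr_inr hB', BlockGraph.inr_inr hB]
    exact Finset.disjoint_image e.injective

/-- Any two such graphs are isomorphic by an isomorphism matching any two given vertices. -/
theorem exists_iso {V W : Type*} [Fintype V] [Fintype W] {G : SimpleGraph V} {H : SimpleGraph W}
    [DecidableRel G.Adj] [DecidableRel H.Adj] (hG : G.IsSRGWith 100 22 0 6)
    (hH : H.IsSRGWith 100 22 0 6) (x : V) (y : W) : ∃ φ : G ≃g H, φ x = y := by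
  classical
  obtain ⟨φG, hφG⟩ := exists_iso_pointBlock hG x
  obtain ⟨φH, hφH⟩ := exists_iso_pointBlock hH y
  obtain ⟨e, he⟩ := Golay.DerivedPair.setSystemIso (card_points hG x) (card_points hH y)
    (isSteiner hG x) (isSteiner hH y)
  obtain ⟨ψ, hψ⟩ := pointBlock_iso (B := Set.range (block G x))
    (by rintro _ ⟨v, rfl⟩; exact Finset.card_pos.1 (by rw [block_card hG]; norm_num)) e he
  refine ⟨(φG.symm.trans ψ).trans φH, ?_⟩
  have : φG.symm x = none := (congrArg φG.symm hφG).symm.trans (RelIso.symm_apply_apply φG none)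
  show φH (ψ (φG.symm x)) = y
  rw [this, hψ, hφH]

end CfsgLib.Steiner.SRGHigmanSims
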