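import Cfsg.Agent.Lib.Sporadic.PlaneFour

/-!
The finite checks behind the uniqueness of S(5,6,12): duads of six points labelled by synthemes of
six other points.
-/

set_option autoImplicit false

namespace CfsgLib.Steiner.Witt12

open CfsgLib.Sporadic.PlaneFour

/-- The standard total. -/
def stdTot (k : Fin 5) : Fin 15 := Fin.ofNat 15 ([0, 4, 8, 10, 12].getD k.1 0)

/-- The syntheme of a duad in the model. -/
def phi (i j : Fin 6) : Fin 15 :=
  Fin.ofNat 15 (([0, 0, 4, 8, 10, 12, 0, 0, 13, 9, 5, 7, 4, 13, 0, 2, 6, 11, 8, 9, 2, 0, 14, 3, 10, 5, 6, 14, 0, 1, 12, 7, 11, 3, 1, 0] : List ℕ).getD (6 * i.1 + j.1) 0)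

/-- Relabellings carrying each total to the standard one. -/
def relTable : List (List ℕ) := [[0, 1, 2, 3, 4, 5], [0, 1, 2, 3, 5, 4], [0, 1, 2, 4, 3, 5], [0, 1, 2, 5, 3, 4], [0, 1, 2, 4, 5, 3], [0, 1, 2, 5, 4, 3]]

/-- The relabelling number `n`. -/
def rel (n x : Fin 6) : Fin 6 := Fin.ofNat 6 ((relTable.getD n.1 []).getD x.1 0)

/-- Three synthemes cover neither orientation of the pair `x`, `y`. -/
def unc (a b c : Fin 15) (x y : Fin 6) : Bool :=
  decide (syn a x ≠ y ∧ syn b x ≠ y ∧ syn c x ≠ y)

/-- Some triangle avoids three synthemes. -/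
def tri (a b c : Fin 15) : Bool :=
  decide (∃ x y z : Fin 6, x < y ∧ y < z ∧ unc a b c x y = true ∧ unc a b c x z = true ∧
    unc a b c y z = true)

theorem syn_inj : ∀ s t : Fin 15, (∀ x, syn s x = syn t x) → s = t := by
  decide +kernel

theorem rel_injective : ∀ n x y : Fin 6, rel n x = rel n y → x = y := by
  decide +kernel

theorem total_rel :
    ∀ a b : Fin 15, compat a b = true → ∀ c : Fin 15, compat a c = true → compat b c = true →
    ∀ d : Fin 15, compat a d = true → compat b d = true → compat c d = true →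
    ∀ e : Fin 15, compat a e = true → compat b e = true → compat c e = true → compat d e = true →
    ∃ n : Fin 6, ∀ t ∈ [a, b, c, d, e], ∃ k : Fin 5, ∀ x,
      rel n (syn t x) = syn (stdTot k) (rel n x) := by
  decide +kernel

theorem phi_symm : ∀ i j : Fin 6, phi i j = phi j i := by
  decide +kernel

theorem phi_zero : ∀ k : Fin 5, phi 0 k.succ = stdTot k := by
  decide +kernel

set_option maxRecDepth 8000 in
set_option synthInstance.maxSize 4000 in
theorem phi_unique :
    ∀ t12 : Fin 15, compat (stdTot 0) t12 = true → compat (stdTot 1) t12 = true →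
    tri (stdTot 0) (stdTot 1) t12 = true →
    ∀ t13 : Fin 15, compat (stdTot 0) t13 = true → compat (stdTot 2) t13 = true → compat t12 t13 = true →
    tri (stdTot 0) (stdTot 2) t13 = true →
    ∀ t23 : Fin 15, compat (stdTot 1) t23 = true → compat (stdTot 2) t23 = true → compat t12 t23 = true → compat t13 t23 = true →
    tri (stdTot 1) (stdTot 2) t23 = true →
    tri t12 t13 t23 = true →
    ∀ t14 : Fin 15, compat (stdTot 0) t14 = true → compat (stdTot 3) t14 = true → compat t12 t14 = true → compat t13 t14 = true →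
    tri (stdTot 0) (stdTot 3) t14 = true →
    ∀ t24 : Fin 15, compat (stdTot 1) t24 = true → compat (stdTot 3) t24 = true → compat t12 t24 = true → compat t23 t24 = true → compat t14 t24 = true →
    tri (stdTot 1) (stdTot 3) t24 = true →
    tri t12 t14 t24 = true →
    ∀ t34 : Fin 15, compat (stdTot 2) t34 = true → compat (stdTot 3) t34 = true → compat t13 t34 = true → compat t23 t34 = true → compat t14 t34 = true → compat t24 t34 = true →
    tri (stdTot 2) (stdTot 3) t34 = true →
    tri t13 t14 t34 = true →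
    tri t23 t24 t34 = true →
    ∀ t15 : Fin 15, compat (stdTot 0) t15 = true → compat (stdTot 4) t15 = true → compat t12 t15 = true → compat t13 t15 = true → compat t14 t15 = true →
    tri (stdTot 0) (stdTot 4) t15 = true →
    ∀ t25 : Fin 15, compat (stdTot 1) t25 = true → compat (stdTot 4) t25 = true → compat t12 t25 = true → compat t23 t25 = true → compat t24 t25 = true → compat t15 t25 = true →
    tri (stdTot 1) (stdTot 4) t25 = true →
    tri t12 t15 t25 = true →
    ∀ t35 : Fin 15, compat (stdTot 2) t35 = true → compat (stdTot 4) t35 = true → compat t13 t35 = true → compat t23 t35 = true → compat t34 t35 = true → compat t15 t35 = true → compat t25 t35 = true →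
    tri (stdTot 2) (stdTot 4) t35 = true →
    tri t13 t15 t35 = true →
    tri t23 t25 t35 = true →
    ∀ t45 : Fin 15, compat (stdTot 3) t45 = true → compat (stdTot 4) t45 = true → compat t14 t45 = true → compat t24 t45 = true → compat t34 t45 = true → compat t15 t45 = true → compat t25 t45 = true → compat t35 t45 = true →
    tri (stdTot 3) (stdTot 4) t45 = true →
    tri t14 t15 t45 = true →
    tri t24 t25 t45 = true →
    tri t34 t35 t45 = true →
    t12 = phi 1 2 ∧ t13 = phi 1 3 ∧ t23 = phi 2 3 ∧ t14 = phi 1 4 ∧ t24 = phi 2 4 ∧ t34 = phi 3 4 ∧ t15 = phi 1 5 ∧ t25 = phi 2 5 ∧ t35 = phi 3 5 ∧ t45 = phi 4 5 := by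
  decide +kernel

theorem reach : ∀ x : Fin 6, x ≠ 0 → ∃ i j : Fin 6, i ≠ j ∧ syn (phi i j) 0 = x := by
  decide +kernel

theorem moved : ∀ a : Fin 6, a ≠ 0 → ∃ i j i' j' : Fin 6, i ≠ j ∧ i' ≠ j' ∧
    syn (phi i j) 0 = syn (phi i' j') 0 ∧ syn (phi i j) a ≠ syn (phi i' j') a := by
  decide +kernel

/-- `Y` is a triangle avoiding the synthemes of the duads outside `X`. -/
def good (X Y : Finset (Fin 6)) : Bool :=
  decide (∀ i : Fin 6, i ∉ X → ∀ j : Fin 6, j ∉ X → i ≠ j → ∀ x : Fin 6, x ∈ Y → syn (phi i j) x ∉ Y)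

/-- The blocks of the model. -/
def model : Finset (Finset (Fin 6 ⊕ Fin 6)) :=
  {(Finset.univ : Finset (Fin 6)).disjSum ∅, (∅ : Finset (Fin 6)).disjSum Finset.univ} ∪
    (((Finset.univ : Finset (Fin 6 × Fin 6 × Fin 6)).filter fun q => q.1 < q.2.1).image
      fun q => ({q.1, q.2.1}ᶜ : Finset (Fin 6)).disjSum {q.2.2, syn (phi q.1 q.2.1) q.2.2}) ∪
    (((Finset.univ : Finset (Fin 6 × Fin 6 × Fin 6)).filter fun q => q.1 < q.2.1).image
      fun q => ({q.1, q.2.1} : Finset (Fin 6)).disjSum {q.2.2, syn (phi q.1 q.2.1) q.2.2}ᶜ) ∪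
    (((Finset.univ : Finset (Fin 6)).powersetCard 3 ×ˢ
      (Finset.univ : Finset (Fin 6)).powersetCard 3).filter fun p => good p.1 p.2 = true).image
      fun p => p.1.disjSum p.2

set_option maxRecDepth 4000 in
theorem model_card : model.card = 132 := by
  decide +kernel

theorem good_unique : ∀ X ∈ (Finset.univ : Finset (Fin 6)).powersetCard 3,
    ∀ Y ∈ (Finset.univ : Finset (Fin 6)).powersetCard 3, good X Y = true →
    ∀ Z ∈ (Finset.univ : Finset (Fin 6)).powersetCard 3, good X Z = true →
    2 ≤ (Y ∩ Z).card → Y = Z := by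
  decide +kernel

end CfsgLib.Steiner.Witt12
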