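import Cfsg.Agent.Lib.Steiner.Basic
import Cfsg.Agent.Lib.Steiner.Witt12Model

/-!
Uniqueness of the Steiner system S(5,6,12), and rigidity of five points.
-/

set_option autoImplicit false

namespace CfsgLib.Steiner.Witt12

open Cfsg CfsgLib.Sporadic.PlaneFour

/-- Transport of a Steiner system along a bijection. -/
theorem steiner_map {α β : Type*} {t k : ℕ} {B : Set (Finset α)} (hB : IsSteinerSystem t k B)
    (e : α ≃ β) : IsSteinerSystem t k {b : Finset β | b.map e.symm.toEmbedding ∈ B} := by
  refine ⟨fun b hb => by rw [← hB.1 _ hb, Finset.card_map], fun s hs => ?_⟩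
  obtain ⟨c, ⟨hc, hsc⟩, huniq⟩ := hB.2 (s.map e.symm.toEmbedding) (by rw [Finset.card_map, hs])
  have hcancel : (c.map e.toEmbedding).map e.symm.toEmbedding = c := by
    ext x; simp [Finset.mem_map_equiv]
  refine ⟨c.map e.toEmbedding, ⟨show _ ∈ B from hcancel.symm ▸ hc, fun x hx => ?_⟩, fun d hd => ?_⟩
  · have := hsc (Finset.mem_map_of_mem e.symm.toEmbedding hx)
    simpa [Finset.mem_map_equiv] using this
  · rw [← huniq _ ⟨hd.1, Finset.map_subset_map.2 hd.2⟩]
    ext x; simp [Finset.mem_map_equiv]

/-- An S(5,6,12) on two sixes, the first of which is a block. -/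
structure IsBased (B : Set (Finset (Fin 6 ⊕ Fin 6))) : Prop where
  sys : IsSteinerSystem 5 6 B
  base : (Finset.univ : Finset (Fin 6)).disjSum ∅ ∈ B

variable {B : Set (Finset (Fin 6 ⊕ Fin 6))}

theorem card_pts : Fintype.card (Fin 6 ⊕ Fin 6) = 12 := by simp

namespace IsBased

variable (h : IsBased B)

include h

theorem five {b c : Finset (Fin 6 ⊕ Fin 6)} (hb : b ∈ B) (hc : c ∈ B)
    (hi : 5 ≤ (b ∩ c).card) : b = c := by
  obtain ⟨F, hF⟩ := exists_finset B
  have hB' : IsSteinerSystem 5 6 (F : Set (Finset (Fin 6 ⊕ Fin 6))) := hF.symm ▸ h.sys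
  by_contra hne
  have := inter_card_lt hB' (Finset.mem_coe.1 (hF.symm ▸ hb)) (Finset.mem_coe.1 (hF.symm ▸ hc)) hne
  omega

theorem other : (∅ : Finset (Fin 6)).disjSum Finset.univ ∈ B := by
  have := compl_5_6_12 card_pts h.sys h.base
  convert this using 1
  ext (x | x) <;> simp

/-- A block with at least five points in the first six is the first six. -/
theorem left_five {b : Finset (Fin 6 ⊕ Fin 6)} (hb : b ∈ B) (h5 : 5 ≤ b.toLeft.card) :
    b = (Finset.univ : Finset (Fin 6)).disjSum ∅ := by
  refine h.five hb h.base (h5.trans ?_)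
  calc b.toLeft.card = (b.toLeft.disjSum (∅ : Finset (Fin 6))).card := by
        rw [Finset.card_disjSum, Finset.card_empty, add_zero]
    _ ≤ _ := Finset.card_le_card fun x hx => by
      rcases x with x | x <;> simp at hx ⊢
      exact hx

theorem left_four {i j : Fin 6} (hij : i ≠ j) {b : Finset (Fin 6 ⊕ Fin 6)} (hb : b ∈ B)
    (hsub : ({i, j}ᶜ : Finset (Fin 6)) ⊆ b.toLeft) {x : Fin 6} (hx : Sum.inr x ∈ b) :
    b.toLeft = {i, j}ᶜ ∧ b.toRight.card = 2 := by
  have hcard : ({i, j}ᶜ : Finset (Fin 6)).card = 4 := by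
    rw [Finset.card_compl, Finset.card_pair hij]; rfl
  have h4 := Finset.card_le_card hsub
  have hl : b.toLeft.card = 4 := by
    by_contra hne
    have h0 := h.left_five hb (by omega)
    rw [h0] at hx
    simp at hx
  refine ⟨(Finset.eq_of_subset_of_card_le hsub (by omega)).symm, ?_⟩
  have := Finset.card_toLeft_add_card_toRight (u := b)
  rw [h.sys.1 b hb] at this
  omega

theorem partner {i j : Fin 6} (hij : i ≠ j) (x : Fin 6) : ∃ y, y ≠ x ∧
    ({i, j}ᶜ : Finset (Fin 6)).disjSum {x, y} ∈ B := by
  have hs : ((({i, j}ᶜ : Finset (Fin 6))).disjSum ({x} : Finset (Fin 6))).card = 5 := by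
    rw [Finset.card_disjSum, Finset.card_compl, Finset.card_pair hij]; rfl
  obtain ⟨b, ⟨hb, hsub⟩, -⟩ := h.sys.2 _ hs
  have h1 := Finset.disjSum_subset.1 hsub
  have hx : x ∈ b.toRight := h1.2 (Finset.mem_singleton_self x)
  obtain ⟨hl, hr⟩ := h.left_four hij hb h1.1 (Finset.mem_toRight.1 hx)
  obtain ⟨y, hy⟩ : ∃ y, b.toRight.erase x = {y} :=
    Finset.card_eq_one.1 (by rw [Finset.card_erase_of_mem hx, hr])
  have hy' : y ∈ b.toRight.erase x := hy ▸ Finset.mem_singleton_self y
  refine ⟨y, Finset.ne_of_mem_erase hy', ?_⟩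
  have : b.toRight = {x, y} := by rw [← Finset.insert_erase hx, hy]
  rw [← this, ← hl, Finset.toLeft_disjSum_toRight]
  exact hb

theorem partner_unique {i j : Fin 6} (hij : i ≠ j) {x y z : Fin 6}
    (hy : ({i, j}ᶜ : Finset (Fin 6)).disjSum {x, y} ∈ B)
    (hz : ({i, j}ᶜ : Finset (Fin 6)).disjSum {x, z} ∈ B) (hyx : y ≠ x) : y = z := by
  have he := h.five hy hz (by
    calc 5 = (({i, j}ᶜ : Finset (Fin 6)).disjSum ({x} : Finset (Fin 6))).card := by
          rw [Finset.card_disjSum, Finset.card_compl, Finset.card_pair hij]; rfl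
      _ ≤ _ := Finset.card_le_card (Finset.subset_inter
        (Finset.disjSum_mono (subset_refl _) (by simp))
        (Finset.disjSum_mono (subset_refl _) (by simp))))
  have h2 := (Finset.disjSum_inj.1 he).2
  have hmem : y ∈ ({x, z} : Finset (Fin 6)) := h2 ▸ by simp
  simp only [Finset.mem_insert, Finset.mem_singleton] at hmem
  exact hmem.resolve_left hyx

theorem exists_syn {i j : Fin 6} (hij : i ≠ j) :
    ∃ t : Fin 15, ∀ x, ({i, j}ᶜ : Finset (Fin 6)).disjSum {x, syn t x} ∈ B := by
  choose g hg hgB using h.partner hij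
  obtain ⟨t, ht⟩ := syn_exists (g := g) hg (fun a b hab => by
    refine (h.partner_unique hij (hgB b) ?_ (hg b))
    rw [← hab, Finset.pair_comm (g a) a]
    exact hgB a)
  exact ⟨t, fun x => by rw [ht]; exact hgB x⟩

theorem syn_unique {i j : Fin 6} (hij : i ≠ j) {t s : Fin 15}
    (ht : ∀ x, ({i, j}ᶜ : Finset (Fin 6)).disjSum {x, syn t x} ∈ B)
    (hs : ∀ x, ({i, j}ᶜ : Finset (Fin 6)).disjSum {x, syn s x} ∈ B) : t = s :=
  syn_inj t s fun x => h.partner_unique hij (ht x) (hs x) (syn_ne t x)

theorem syn_compat {i j k : Fin 6} (hij : i ≠ j) (hik : i ≠ k) (hjk : j ≠ k) {t s : Fin 15}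
    (ht : ∀ x, ({i, j}ᶜ : Finset (Fin 6)).disjSum {x, syn t x} ∈ B)
    (hs : ∀ x, ({i, k}ᶜ : Finset (Fin 6)).disjSum {x, syn s x} ∈ B) : compat t s = true := by
  rw [compat, decide_eq_true_eq]
  intro x hx
  have h3 : ({i, j, k}ᶜ : Finset (Fin 6)).card = 3 := by
    rw [Finset.card_compl, Finset.card_eq_three.2 ⟨i, j, k, hij, hik, hjk, rfl⟩]; rfl
  have he := h.five (ht x) (hs x) (by
    calc 5 = (({i, j, k}ᶜ : Finset (Fin 6)).disjSum ({x, syn t x} : Finset (Fin 6))).card := by
          rw [Finset.card_disjSum, h3, Finset.card_pair (syn_ne t x).symm]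
      _ ≤ _ := Finset.card_le_card (Finset.subset_inter
        (Finset.disjSum_mono (by intro a; simp only [Finset.mem_compl, Finset.mem_insert,
          Finset.mem_singleton]; tauto) (subset_refl _))
        (Finset.disjSum_mono (by intro a; simp only [Finset.mem_compl, Finset.mem_insert,
          Finset.mem_singleton]; tauto) (by rw [hx]))))
  have h1 := Finset.ext_iff.1 (Finset.disjSum_inj.1 he).1 j
  simp [hij.symm, hjk] at h1

/-- The block through three points of the first six and two of the other six. -/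
theorem triangle {i j k : Fin 6} (hij : i ≠ j) (hik : i ≠ k) (hjk : j ≠ k) {a b c : Fin 15}
    (ha : ∀ x, ({i, j}ᶜ : Finset (Fin 6)).disjSum {x, syn a x} ∈ B)
    (hb : ∀ x, ({i, k}ᶜ : Finset (Fin 6)).disjSum {x, syn b x} ∈ B)
    (hc : ∀ x, ({j, k}ᶜ : Finset (Fin 6)).disjSum {x, syn c x} ∈ B)
    {x y : Fin 6} (hxy : x ≠ y) (hunc : unc a b c x y = true) :
    ∃ Y : Finset (Fin 6), Y.card = 3 ∧ x ∈ Y ∧ y ∈ Y ∧
      ({i, j, k}ᶜ : Finset (Fin 6)).disjSum Y ∈ B ∧
      ∀ u ∈ Y, ∀ v ∈ Y, u ≠ v → unc a b c u v = true := by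
  rw [unc, decide_eq_true_eq] at hunc
  set X : Finset (Fin 6) := {i, j, k}ᶜ with hX
  have hX3 : X.card = 3 := by
    rw [hX, Finset.card_compl, Finset.card_eq_three.2 ⟨i, j, k, hij, hik, hjk, rfl⟩]; rfl
  obtain ⟨d, ⟨hd, hsub⟩, -⟩ := h.sys.2 (X.disjSum {x, y})
    (by rw [Finset.card_disjSum, hX3, Finset.card_pair hxy])
  obtain ⟨hXl, hxyr⟩ := Finset.disjSum_subset.1 hsub
  have hx : x ∈ d.toRight := hxyr (by simp)
  have hy : y ∈ d.toRight := hxyr (by simp)
  -- a fourth point on the left would make the pair covered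
  have hcov : ∀ (p q : Fin 6) (t : Fin 15), p ≠ q →
      (∀ u, ({p, q}ᶜ : Finset (Fin 6)).disjSum {u, syn t u} ∈ B) →
      ({p, q}ᶜ : Finset (Fin 6)) ⊆ d.toLeft → syn t x = y := by
    intro p q t hpq ht hsub'
    obtain ⟨hl, hr⟩ := h.left_four hpq hd hsub' (Finset.mem_toRight.1 hx)
    have hrx : d.toRight = {x, y} := (Finset.eq_of_subset_of_card_le hxyr (by
      rw [hr, Finset.card_pair hxy])).symm
    refine h.partner_unique hpq (ht x) ?_ (syn_ne t x)
    rw [← hrx, ← hl, Finset.toLeft_disjSum_toRight]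
    exact hd
  have hleft : d.toLeft = X := by
    refine (Finset.eq_of_subset_of_card_le hXl ?_).symm
    by_contra h4
    push Not at h4
    obtain ⟨z, hz, hzX⟩ := Finset.exists_mem_notMem_of_card_lt_card h4
    rw [hX, Finset.mem_compl, not_not, Finset.mem_insert, Finset.mem_insert,
      Finset.mem_singleton] at hzX
    have hins : ∀ p q : Fin 6, (∀ w, w ≠ p → w ≠ q → w = z ∨ w ∈ X) →
        ({p, q}ᶜ : Finset (Fin 6)) ⊆ d.toLeft := fun p q hw w hwm => by
      simp only [Finset.mem_compl, Finset.mem_insert, Finset.mem_singleton, not_or] at hwm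
      rcases hw w hwm.1 hwm.2 with rfl | hwX
      · exact hz
      · exact hXl hwX
    rcases hzX with rfl | rfl | rfl
    · exact hunc.2.2 (hcov j k c hjk hc (hins j k fun w h1 h2 => by
        simp only [hX, Finset.mem_compl, Finset.mem_insert, Finset.mem_singleton]; tauto))
    · exact hunc.2.1 (hcov i k b hik hb (hins i k fun w h1 h2 => by
        simp only [hX, Finset.mem_compl, Finset.mem_insert, Finset.mem_singleton]; tauto))
    · exact hunc.1 (hcov i j a hij ha (hins i j fun w h1 h2 => by
        simp only [hX, Finset.mem_compl, Finset.mem_insert, Finset.mem_singleton]; tauto))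
  have hr3 : d.toRight.card = 3 := by
    have := Finset.card_toLeft_add_card_toRight (u := d)
    rw [h.sys.1 d hd, hleft, hX3] at this
    omega
  have heq : d = X.disjSum d.toRight := by rw [← hleft, Finset.toLeft_disjSum_toRight]
  refine ⟨d.toRight, hr3, hx, hy, heq ▸ hd, fun u hu v hv huv => ?_⟩
  have key : ∀ (p q : Fin 6) (t : Fin 15), p ≠ q → X ⊆ ({p, q}ᶜ : Finset (Fin 6)) →
      (∀ u, ({p, q}ᶜ : Finset (Fin 6)).disjSum {u, syn t u} ∈ B) → syn t u ≠ v := by
    intro p q t hpq hXpq ht he
    have h5 := h.five hd (ht u) (by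
      calc 5 = (X.disjSum ({u, v} : Finset (Fin 6))).card := by
            rw [Finset.card_disjSum, hX3, Finset.card_pair huv]
        _ ≤ _ := Finset.card_le_card (Finset.subset_inter
          (Finset.disjSum_subset.2 ⟨hXl, by
            intro w hw; simp only [Finset.mem_insert, Finset.mem_singleton] at hw
            rcases hw with rfl | rfl <;> assumption⟩)
          (Finset.disjSum_mono hXpq (by rw [he]))))
    have := congrArg (fun s : Finset (Fin 6 ⊕ Fin 6) => s.toLeft.card) h5
    simp only [hleft, Finset.toLeft_disjSum, hX3, Finset.card_compl, Finset.card_pair hpq,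
      Fintype.card_fin] at this
    omega
  rw [unc, decide_eq_true_eq]
  refine ⟨key i j a hij ?_ ha, key i k b hik ?_ hb, key j k c hjk ?_ hc⟩ <;>
    (intro w; simp only [hX, Finset.mem_compl, Finset.mem_insert, Finset.mem_singleton]; tauto)

theorem tri_of {i j k : Fin 6} (hij : i ≠ j) (hik : i ≠ k) (hjk : j ≠ k) {a b c : Fin 15}
    (ha : ∀ x, ({i, j}ᶜ : Finset (Fin 6)).disjSum {x, syn a x} ∈ B)
    (hb : ∀ x, ({i, k}ᶜ : Finset (Fin 6)).disjSum {x, syn b x} ∈ B)
    (hc : ∀ x, ({j, k}ᶜ : Finset (Fin 6)).disjSum {x, syn c x} ∈ B) : tri a b c = true := by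
  obtain ⟨y, hy⟩ : ∃ y, y ∉ ({0, syn a 0, syn b 0, syn c 0} : Finset (Fin 6)) := by
    by_contra hcon
    push Not at hcon
    have := Finset.card_le_card (fun y (_ : y ∈ (Finset.univ : Finset (Fin 6))) => hcon y)
    rw [Finset.card_univ, Fintype.card_fin] at this
    have := this.trans (Finset.card_le_four (a := (0 : Fin 6)) (b := syn a 0) (c := syn b 0)
      (d := syn c 0))
    omega
  simp only [Finset.mem_insert, Finset.mem_singleton, not_or] at hy
  obtain ⟨Y, hY3, -, -, -, hpair⟩ := h.triangle hij hik hjk ha hb hc (Ne.symm hy.1) (by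
    rw [unc, decide_eq_true_eq]
    exact ⟨Ne.symm hy.2.1, Ne.symm hy.2.2.1, Ne.symm hy.2.2.2⟩)
  rw [tri, decide_eq_true_eq]
  set L := Y.sort (· ≤ ·) with hL
  have hlen : L.length = 3 := by rw [hL, Finset.length_sort, hY3]
  have hsorted : L.Pairwise (· < ·) := Finset.sortedLT_sort Y |>.pairwise
  have hmem : ∀ p ∈ L, p ∈ Y := fun p hp => (Finset.mem_sort _).1 hp
  match L, hlen, hsorted, hmem with
  | [p, q, r], _, hs, hm =>
    simp only [List.pairwise_cons, List.mem_cons, List.not_mem_nil, or_false, forall_eq_or_imp,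
      forall_eq, IsEmpty.forall_iff, implies_true, and_true, List.Pairwise.nil] at hs hm
    obtain ⟨⟨hpq, hpr⟩, hqr⟩ := hs
    exact ⟨p, q, r, hpq, hqr, hpair p hm.1 q hm.2.1 hpq.ne, hpair p hm.1 r hm.2.2 hpr.ne,
      hpair q hm.2.1 r hm.2.2 hqr.ne⟩

end IsBased

/-- The duads at the point `0` are labelled by the standard total. -/
def IsNormal (B : Set (Finset (Fin 6 ⊕ Fin 6))) : Prop :=
  IsBased B ∧ ∀ (k : Fin 5) (x : Fin 6),
    ({0, k.succ}ᶜ : Finset (Fin 6)).disjSum {x, syn (stdTot k) x} ∈ B

theorem IsNormal.duads (h : IsNormal B) (i j : Fin 6) (hij : i ≠ j) (x : Fin 6) :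
    ({i, j}ᶜ : Finset (Fin 6)).disjSum {x, syn (phi i j) x} ∈ B := by
  obtain ⟨hb, hstd⟩ := h
  have ex := fun (i j : Fin 6) (hij : i ≠ j) => hb.exists_syn hij
  obtain ⟨a12, h12⟩ := ex 1 2 (by decide)
  obtain ⟨a13, h13⟩ := ex 1 3 (by decide)
  obtain ⟨a23, h23⟩ := ex 2 3 (by decide)
  obtain ⟨a14, h14⟩ := ex 1 4 (by decide)
  obtain ⟨a24, h24⟩ := ex 2 4 (by decide)
  obtain ⟨a34, h34⟩ := ex 3 4 (by decide)
  obtain ⟨a15, h15⟩ := ex 1 5 (by decide)
  obtain ⟨a25, h25⟩ := ex 2 5 (by decide)
  obtain ⟨a35, h35⟩ := ex 3 5 (by decide)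
  obtain ⟨a45, h45⟩ := ex 4 5 (by decide)
  have h01 := hstd 0
  have h02 := hstd 1
  have h03 := hstd 2
  have h04 := hstd 3
  have h05 := hstd 4
  have flip : ∀ {i j : Fin 6} {t : Fin 15},
      (∀ x, ({i, j}ᶜ : Finset (Fin 6)).disjSum {x, syn t x} ∈ B) →
      ∀ x, ({j, i}ᶜ : Finset (Fin 6)).disjSum {x, syn t x} ∈ B := fun {i j _} ht => by
    rwa [Finset.pair_comm j i]
  have key := phi_unique
    a12
    (hb.syn_compat (i := 1) (j := 0) (k := 2) (by decide) (by decide) (by decide) (flip h01) h12)
    (hb.syn_compat (i := 2) (j := 0) (k := 1) (by decide) (by decide) (by decide) (flip h02) (flip h12))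
    (hb.tri_of (i := 0) (j := 1) (k := 2) (by decide) (by decide) (by decide) h01 h02 h12)
    a13
    (hb.syn_compat (i := 1) (j := 0) (k := 3) (by decide) (by decide) (by decide) (flip h01) h13)
    (hb.syn_compat (i := 3) (j := 0) (k := 1) (by decide) (by decide) (by decide) (flip h03) (flip h13))
    (hb.syn_compat (i := 1) (j := 2) (k := 3) (by decide) (by decide) (by decide) h12 h13)
    (hb.tri_of (i := 0) (j := 1) (k := 3) (by decide) (by decide) (by decide) h01 h03 h13)
    a23
    (hb.syn_compat (i := 2) (j := 0) (k := 3) (by decide) (by decide) (by decide) (flip h02) h23)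
    (hb.syn_compat (i := 3) (j := 0) (k := 2) (by decide) (by decide) (by decide) (flip h03) (flip h23))
    (hb.syn_compat (i := 2) (j := 1) (k := 3) (by decide) (by decide) (by decide) (flip h12) h23)
    (hb.syn_compat (i := 3) (j := 1) (k := 2) (by decide) (by decide) (by decide) (flip h13) (flip h23))
    (hb.tri_of (i := 0) (j := 2) (k := 3) (by decide) (by decide) (by decide) h02 h03 h23)
    (hb.tri_of (i := 1) (j := 2) (k := 3) (by decide) (by decide) (by decide) h12 h13 h23)
    a14
    (hb.syn_compat (i := 1) (j := 0) (k := 4) (by decide) (by decide) (by decide) (flip h01) h14)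
    (hb.syn_compat (i := 4) (j := 0) (k := 1) (by decide) (by decide) (by decide) (flip h04) (flip h14))
    (hb.syn_compat (i := 1) (j := 2) (k := 4) (by decide) (by decide) (by decide) h12 h14)
    (hb.syn_compat (i := 1) (j := 3) (k := 4) (by decide) (by decide) (by decide) h13 h14)
    (hb.tri_of (i := 0) (j := 1) (k := 4) (by decide) (by decide) (by decide) h01 h04 h14)
    a24
    (hb.syn_compat (i := 2) (j := 0) (k := 4) (by decide) (by decide) (by decide) (flip h02) h24)
    (hb.syn_compat (i := 4) (j := 0) (k := 2) (by decide) (by decide) (by decide) (flip h04) (flip h24))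
    (hb.syn_compat (i := 2) (j := 1) (k := 4) (by decide) (by decide) (by decide) (flip h12) h24)
    (hb.syn_compat (i := 2) (j := 3) (k := 4) (by decide) (by decide) (by decide) h23 h24)
    (hb.syn_compat (i := 4) (j := 1) (k := 2) (by decide) (by decide) (by decide) (flip h14) (flip h24))
    (hb.tri_of (i := 0) (j := 2) (k := 4) (by decide) (by decide) (by decide) h02 h04 h24)
    (hb.tri_of (i := 1) (j := 2) (k := 4) (by decide) (by decide) (by decide) h12 h14 h24)
    a34
    (hb.syn_compat (i := 3) (j := 0) (k := 4) (by decide) (by decide) (by decide) (flip h03) h34)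
    (hb.syn_compat (i := 4) (j := 0) (k := 3) (by decide) (by decide) (by decide) (flip h04) (flip h34))
    (hb.syn_compat (i := 3) (j := 1) (k := 4) (by decide) (by decide) (by decide) (flip h13) h34)
    (hb.syn_compat (i := 3) (j := 2) (k := 4) (by decide) (by decide) (by decide) (flip h23) h34)
    (hb.syn_compat (i := 4) (j := 1) (k := 3) (by decide) (by decide) (by decide) (flip h14) (flip h34))
    (hb.syn_compat (i := 4) (j := 2) (k := 3) (by decide) (by decide) (by decide) (flip h24) (flip h34))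
    (hb.tri_of (i := 0) (j := 3) (k := 4) (by decide) (by decide) (by decide) h03 h04 h34)
    (hb.tri_of (i := 1) (j := 3) (k := 4) (by decide) (by decide) (by decide) h13 h14 h34)
    (hb.tri_of (i := 2) (j := 3) (k := 4) (by decide) (by decide) (by decide) h23 h24 h34)
    a15
    (hb.syn_compat (i := 1) (j := 0) (k := 5) (by decide) (by decide) (by decide) (flip h01) h15)
    (hb.syn_compat (i := 5) (j := 0) (k := 1) (by decide) (by decide) (by decide) (flip h05) (flip h15))
    (hb.syn_compat (i := 1) (j := 2) (k := 5) (by decide) (by decide) (by decide) h12 h15)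
    (hb.syn_compat (i := 1) (j := 3) (k := 5) (by decide) (by decide) (by decide) h13 h15)
    (hb.syn_compat (i := 1) (j := 4) (k := 5) (by decide) (by decide) (by decide) h14 h15)
    (hb.tri_of (i := 0) (j := 1) (k := 5) (by decide) (by decide) (by decide) h01 h05 h15)
    a25
    (hb.syn_compat (i := 2) (j := 0) (k := 5) (by decide) (by decide) (by decide) (flip h02) h25)
    (hb.syn_compat (i := 5) (j := 0) (k := 2) (by decide) (by decide) (by decide) (flip h05) (flip h25))
    (hb.syn_compat (i := 2) (j := 1) (k := 5) (by decide) (by decide) (by decide) (flip h12) h25)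
    (hb.syn_compat (i := 2) (j := 3) (k := 5) (by decide) (by decide) (by decide) h23 h25)
    (hb.syn_compat (i := 2) (j := 4) (k := 5) (by decide) (by decide) (by decide) h24 h25)
    (hb.syn_compat (i := 5) (j := 1) (k := 2) (by decide) (by decide) (by decide) (flip h15) (flip h25))
    (hb.tri_of (i := 0) (j := 2) (k := 5) (by decide) (by decide) (by decide) h02 h05 h25)
    (hb.tri_of (i := 1) (j := 2) (k := 5) (by decide) (by decide) (by decide) h12 h15 h25)
    a35
    (hb.syn_compat (i := 3) (j := 0) (k := 5) (by decide) (by decide) (by decide) (flip h03) h35)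
    (hb.syn_compat (i := 5) (j := 0) (k := 3) (by decide) (by decide) (by decide) (flip h05) (flip h35))
    (hb.syn_compat (i := 3) (j := 1) (k := 5) (by decide) (by decide) (by decide) (flip h13) h35)
    (hb.syn_compat (i := 3) (j := 2) (k := 5) (by decide) (by decide) (by decide) (flip h23) h35)
    (hb.syn_compat (i := 3) (j := 4) (k := 5) (by decide) (by decide) (by decide) h34 h35)
    (hb.syn_compat (i := 5) (j := 1) (k := 3) (by decide) (by decide) (by decide) (flip h15) (flip h35))
    (hb.syn_compat (i := 5) (j := 2) (k := 3) (by decide) (by decide) (by decide) (flip h25) (flip h35))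
    (hb.tri_of (i := 0) (j := 3) (k := 5) (by decide) (by decide) (by decide) h03 h05 h35)
    (hb.tri_of (i := 1) (j := 3) (k := 5) (by decide) (by decide) (by decide) h13 h15 h35)
    (hb.tri_of (i := 2) (j := 3) (k := 5) (by decide) (by decide) (by decide) h23 h25 h35)
    a45
    (hb.syn_compat (i := 4) (j := 0) (k := 5) (by decide) (by decide) (by decide) (flip h04) h45)
    (hb.syn_compat (i := 5) (j := 0) (k := 4) (by decide) (by decide) (by decide) (flip h05) (flip h45))
    (hb.syn_compat (i := 4) (j := 1) (k := 5) (by decide) (by decide) (by decide) (flip h14) h45)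
    (hb.syn_compat (i := 4) (j := 2) (k := 5) (by decide) (by decide) (by decide) (flip h24) h45)
    (hb.syn_compat (i := 4) (j := 3) (k := 5) (by decide) (by decide) (by decide) (flip h34) h45)
    (hb.syn_compat (i := 5) (j := 1) (k := 4) (by decide) (by decide) (by decide) (flip h15) (flip h45))
    (hb.syn_compat (i := 5) (j := 2) (k := 4) (by decide) (by decide) (by decide) (flip h25) (flip h45))
    (hb.syn_compat (i := 5) (j := 3) (k := 4) (by decide) (by decide) (by decide) (flip h35) (flip h45))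
    (hb.tri_of (i := 0) (j := 4) (k := 5) (by decide) (by decide) (by decide) h04 h05 h45)
    (hb.tri_of (i := 1) (j := 4) (k := 5) (by decide) (by decide) (by decide) h14 h15 h45)
    (hb.tri_of (i := 2) (j := 4) (k := 5) (by decide) (by decide) (by decide) h24 h25 h45)
    (hb.tri_of (i := 3) (j := 4) (k := 5) (by decide) (by decide) (by decide) h34 h35 h45)
  obtain ⟨e12, e13, e23, e14, e24, e34, e15, e25, e35, e45⟩ := key
  have hcases : ∀ i j : Fin 6, i < j →
      ∀ x, ({i, j}ᶜ : Finset (Fin 6)).disjSum {x, syn (phi i j) x} ∈ B := by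
    intro i j hlt
    fin_cases i <;> fin_cases j
    · exact absurd hlt (by decide)
    · intro x; exact (show phi 0 1 = stdTot 0 by decide) ▸ h01 x
    · intro x; exact (show phi 0 2 = stdTot 1 by decide) ▸ h02 x
    · intro x; exact (show phi 0 3 = stdTot 2 by decide) ▸ h03 x
    · intro x; exact (show phi 0 4 = stdTot 3 by decide) ▸ h04 x
    · intro x; exact (show phi 0 5 = stdTot 4 by decide) ▸ h05 x
    · exact absurd hlt (by decide)
    · exact absurd hlt (by decide)
    · exact e12 ▸ h12
    · exact e13 ▸ h13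
    · exact e14 ▸ h14
    · exact e15 ▸ h15
    · exact absurd hlt (by decide)
    · exact absurd hlt (by decide)
    · exact absurd hlt (by decide)
    · exact e23 ▸ h23
    · exact e24 ▸ h24
    · exact e25 ▸ h25
    · exact absurd hlt (by decide)
    · exact absurd hlt (by decide)
    · exact absurd hlt (by decide)
    · exact absurd hlt (by decide)
    · exact e34 ▸ h34
    · exact e35 ▸ h35
    · exact absurd hlt (by decide)
    · exact absurd hlt (by decide)
    · exact absurd hlt (by decide)
    · exact absurd hlt (by decide)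
    · exact absurd hlt (by decide)
    · exact e45 ▸ h45
    · exact absurd hlt (by decide)
    · exact absurd hlt (by decide)
    · exact absurd hlt (by decide)
    · exact absurd hlt (by decide)
    · exact absurd hlt (by decide)
    · exact absurd hlt (by decide)
  rcases lt_or_gt_of_ne hij with hlt | hlt
  · exact hcases i j hlt x
  · rw [phi_symm, Finset.pair_comm]
    exact hcases j i hlt x

end CfsgLib.Steiner.Witt12
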