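import Cfsg.Agent.Lib.Steiner.Witt12

/-!
Every S(5,6,12) is carried to the model; five fixed points force the identity.
-/

set_option autoImplicit false

namespace CfsgLib.Steiner.Witt12

open Cfsg CfsgLib.Sporadic.PlaneFour
open scoped Pointwise

variable {B : Set (Finset (Fin 6 ⊕ Fin 6))}

theorem IsNormal.good_triangle (h : IsNormal B) {X : Finset (Fin 6)} (hX : X.card = 3) {x y : Fin 6}
    (hxy : x ≠ y) (hu : ∀ i, i ∉ X → ∀ j, j ∉ X → i ≠ j → syn (phi i j) x ≠ y) :
    ∃ Y : Finset (Fin 6), Y.card = 3 ∧ x ∈ Y ∧ y ∈ Y ∧ X.disjSum Y ∈ B ∧ good X Y = true := by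
  obtain ⟨i, j, k, hij, hik, hjk, hc⟩ := Finset.card_eq_three.1
    (show Xᶜ.card = 3 by rw [Finset.card_compl, hX]; rfl)
  have hX' : X = {i, j, k}ᶜ := by rw [← hc, compl_compl]
  have hout : ∀ w, w ∉ X ↔ w = i ∨ w = j ∨ w = k := fun w => by
    rw [← Finset.mem_compl, hc]; simp
  obtain ⟨Y, h3, hx, hy, hB, hp⟩ := h.1.triangle hij hik hjk (h.duads i j hij) (h.duads i k hik)
    (h.duads j k hjk) hxy (by
      rw [unc, decide_eq_true_eq]
      exact ⟨hu i ((hout i).2 (by simp)) j ((hout j).2 (by simp)) hij,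
        hu i ((hout i).2 (by simp)) k ((hout k).2 (by simp)) hik,
        hu j ((hout j).2 (by simp)) k ((hout k).2 (by simp)) hjk⟩)
  refine ⟨Y, h3, hx, hy, hX' ▸ hB, ?_⟩
  rw [good, decide_eq_true_eq]
  intro p hp' q hq' hpq u hu' hmem
  have hne : u ≠ syn (phi p q) u := (syn_ne _ u).symm
  have := hp u hu' _ hmem hne
  rw [unc, decide_eq_true_eq] at this
  rcases (hout p).1 hp' with rfl | rfl | rfl <;> rcases (hout q).1 hq' with rfl | rfl | rfl <;>
    first
      | exact absurd rfl hpq
      | exact this.1 rfl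
      | exact this.2.1 rfl
      | exact this.2.2 rfl
      | exact this.1 (congrArg (fun t => syn t u) (phi_symm _ _))
      | exact this.2.1 (congrArg (fun t => syn t u) (phi_symm _ _))
      | exact this.2.2 (congrArg (fun t => syn t u) (phi_symm _ _))

theorem IsNormal.eq_model (h : IsNormal B) : B = (model : Set (Finset (Fin 6 ⊕ Fin 6))) := by
  have hsub : (model : Set (Finset (Fin 6 ⊕ Fin 6))) ⊆ B := by
    intro b hb
    simp only [model, Finset.mem_coe, Finset.mem_union, Finset.mem_insert, Finset.mem_singleton,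
      Finset.mem_image, Finset.mem_filter, Finset.mem_univ, true_and, Finset.mem_product,
      Finset.mem_powersetCard] at hb
    rcases hb with (((rfl | rfl) | ⟨q, hq, rfl⟩) | ⟨q, hq, rfl⟩) | ⟨p, ⟨⟨hX, hY⟩, hg⟩, rfl⟩
    · exact h.1.base
    · exact h.1.other
    · exact h.duads _ _ hq.ne _
    · have := compl_5_6_12 card_pts h.1.sys (h.duads _ _ hq.ne q.2.2)
      convert this using 1
      ext (x | x) <;> simp
      tauto
    · obtain ⟨x, hx, y, hy, hxy⟩ := Finset.one_lt_card.1 (by omega : 1 < p.2.card)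
      have hg' := hg
      rw [good, decide_eq_true_eq] at hg'
      obtain ⟨Z, hZ3, hxZ, hyZ, hZB, hgZ⟩ := h.good_triangle hX.2 hxy
        (fun i hi j hj hij he => hg' i hi j hj hij x hx (he ▸ hy))
      have h2 : 2 ≤ (p.2 ∩ Z).card := Finset.one_lt_card.2
        ⟨x, Finset.mem_inter.2 ⟨hx, hxZ⟩, y, Finset.mem_inter.2 ⟨hy, hyZ⟩, hxy⟩
      rw [good_unique p.1 (Finset.mem_powersetCard.2 hX) p.2 (Finset.mem_powersetCard.2 hY) hg Z
        (Finset.mem_powersetCard.2 ⟨Finset.subset_univ _, hZ3⟩) hgZ h2]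
      exact hZB
  refine (Set.eq_of_subset_of_ncard_le hsub ?_ (Set.toFinite _)).symm
  have hc := block_count h.1.sys
  rw [card_pts] at hc
  norm_num [Nat.choose] at hc
  rw [Set.ncard_coe_finset, model_card]
  omega

theorem map_disjSum_congr (ρ σ : Equiv.Perm (Fin 6)) (s t : Finset (Fin 6)) :
    (s.disjSum t).map (Equiv.sumCongr ρ σ).toEmbedding =
      (s.map ρ.toEmbedding).disjSum (t.map σ.toEmbedding) := by
  ext (x | x) <;> simp [Finset.mem_map_equiv]

variable {α : Type*} [Fintype α] [DecidableEq α] {A : Set (Finset α)}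

/-- Every S(5,6,12), with any chosen block, is carried to the model. -/
theorem exists_normal (hα : Fintype.card α = 12) (hA : IsSteinerSystem 5 6 A) {O : Finset α}
    (hO : O ∈ A) : ∃ e : α ≃ Fin 6 ⊕ Fin 6,
      O.map e.toEmbedding = (Finset.univ : Finset (Fin 6)).disjSum ∅ ∧
      IsNormal {b | b.map e.symm.toEmbedding ∈ A} ∧
      ∀ b, b ∈ A ↔ b.map e.toEmbedding ∈ model := by
  have hO6 := hA.1 O hO
  have c1 : Fintype.card {x // x ∈ O} = 6 := by rw [Fintype.card_coe, hO6]
  have c2 : Fintype.card {x // x ∉ O} = 6 := by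
    rw [Fintype.card_subtype_compl, c1, hα]
  set e₀ : α ≃ Fin 6 ⊕ Fin 6 := (Equiv.sumCompl (· ∈ O)).symm.trans
    (Equiv.sumCongr (Fintype.equivFinOfCardEq c1) (Fintype.equivFinOfCardEq c2)) with he₀
  have hO0 : O.map e₀.toEmbedding = (Finset.univ : Finset (Fin 6)).disjSum ∅ := by
    ext (x | x) <;> rw [Finset.mem_map_equiv] <;> simp [he₀]
    exact ((Fintype.equivFinOfCardEq c2).symm x).2
  have based : ∀ e : α ≃ Fin 6 ⊕ Fin 6,
      O.map e.toEmbedding = (Finset.univ : Finset (Fin 6)).disjSum ∅ →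
      IsBased {b | b.map e.symm.toEmbedding ∈ A} := fun e he =>
    ⟨steiner_map hA e, by
      show _ ∈ A
      rw [← he, Finset.map_map]
      convert hO
      ext x
      simp⟩
  have h0 := based e₀ hO0
  have hk : ∀ k : Fin 5, (0 : Fin 6) ≠ k.succ := fun k => (Fin.succ_ne_zero k).symm
  choose t ht using fun k : Fin 5 => h0.exists_syn (hk k)
  have hcomp : ∀ k l : Fin 5, k ≠ l → compat (t k) (t l) = true := fun k l hkl =>
    h0.syn_compat (hk k) (hk l) (fun e => hkl (Fin.succ_injective _ e)) (ht k) (ht l)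
  obtain ⟨n, hn⟩ := total_rel (t 0) (t 1) (hcomp 0 1 (by decide)) (t 2) (hcomp 0 2 (by decide))
    (hcomp 1 2 (by decide)) (t 3) (hcomp 0 3 (by decide)) (hcomp 1 3 (by decide))
    (hcomp 2 3 (by decide)) (t 4) (hcomp 0 4 (by decide)) (hcomp 1 4 (by decide))
    (hcomp 2 4 (by decide)) (hcomp 3 4 (by decide))
  have hn' : ∀ k : Fin 5, ∃ k' : Fin 5, ∀ x, rel n (syn (t k) x) = syn (stdTot k') (rel n x) :=
    fun k => hn (t k) (by fin_cases k <;> simp)
  choose π hπ using hn'
  have hπinj : Function.Injective π := by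
    intro k l hkl
    by_contra hne
    have hc := hcomp k l hne
    rw [compat, decide_eq_true_eq] at hc
    exact hc 0 (rel_injective n _ _ (by rw [hπ, hπ, hkl]))
  let σ : Equiv.Perm (Fin 6) := Equiv.ofBijective (rel n)
    (Finite.injective_iff_bijective.1 fun x y => rel_injective n x y)
  let f : Fin 6 → Fin 6 := Fin.cases 0 (fun k => (π k).succ)
  have hf : Function.Injective f := by
    intro a b hab
    cases a using Fin.cases with
    | zero => cases b using Fin.cases with
      | zero => rfl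
      | succ b => simp [f, eq_comm, Fin.succ_ne_zero] at hab
    | succ a => cases b using Fin.cases with
      | zero => simp [f, Fin.succ_ne_zero] at hab
      | succ b => simp only [f, Fin.cases_succ, Fin.succ_inj] at hab; rw [hπinj hab]
  let ρ : Equiv.Perm (Fin 6) := Equiv.ofBijective f (Finite.injective_iff_bijective.1 hf)
  set e := e₀.trans (Equiv.sumCongr ρ σ) with he
  have hmap : ∀ s : Finset α, s.map e.toEmbedding =
      (s.map e₀.toEmbedding).map (Equiv.sumCongr ρ σ).toEmbedding := fun s => by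
    rw [Finset.map_map]; rfl
  have hOe : O.map e.toEmbedding = (Finset.univ : Finset (Fin 6)).disjSum ∅ := by
    rw [hmap, hO0, map_disjSum_congr, Finset.map_empty, Finset.map_univ_equiv]
  have hN : IsNormal {b | b.map e.symm.toEmbedding ∈ A} := by
    refine ⟨based e hOe, fun k' x' => ?_⟩
    obtain ⟨k, rfl⟩ := (Finite.injective_iff_surjective.1 hπinj) k'
    obtain ⟨x, rfl⟩ := σ.surjective x'
    have hblk : (({0, k.succ}ᶜ : Finset (Fin 6)).disjSum {x, syn (t k) x}).map
        (Equiv.sumCongr ρ σ).toEmbedding =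
        ({0, (π k).succ}ᶜ : Finset (Fin 6)).disjSum {σ x, syn (stdTot (π k)) (σ x)} := by
      rw [map_disjSum_congr]
      congr 1
      · ext y
        obtain ⟨z, rfl⟩ := ρ.surjective y
        simp only [Finset.mem_map_equiv, Equiv.symm_apply_apply, Finset.mem_compl,
          Finset.mem_insert, Finset.mem_singleton]
        rw [show ρ z = 0 ↔ z = 0 from ρ.injective.eq_iff' rfl,
          show ρ z = (π k).succ ↔ z = k.succ from ρ.injective.eq_iff' (by simp [ρ, f])]
      · rw [Finset.map_insert, Finset.map_singleton]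
        exact congrArg (fun v => ({σ x, v} : Finset (Fin 6))) (hπ k x)
    show _ ∈ A
    rw [← hblk, Finset.map_map]
    have he2 : (Equiv.sumCongr ρ σ).toEmbedding.trans e.symm.toEmbedding = e₀.symm.toEmbedding := by
      ext o
      simp [he]
    rw [he2]
    exact ht k x
  refine ⟨e, hOe, hN, fun b => ?_⟩
  have hcancel : (b.map e.toEmbedding).map e.symm.toEmbedding = b := by
    ext x; simp [Finset.mem_map_equiv]
  rw [← Finset.mem_coe, ← hN.eq_model]
  show b ∈ A ↔ _ ∈ A
  rw [hcancel]

omit [DecidableEq α] in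
theorem exists_block (hα : Fintype.card α = 12) (hA : IsSteinerSystem 5 6 A) : ∃ O, O ∈ A := by
  obtain ⟨s, -, hs⟩ := Finset.exists_subset_card_eq (s := (Finset.univ : Finset α)) (n := 5)
    (by rw [Finset.card_univ, hα]; omega)
  obtain ⟨b, ⟨hb, -⟩, -⟩ := hA.2 s hs
  exact ⟨b, hb⟩

/-- An automorphism fixing five points is trivial. -/
theorem eq_one_of_five (hα : Fintype.card α = 12) (hA : IsSteinerSystem 5 6 A) {g : Equiv.Perm α}
    (hg : g ∈ setSystemAut A) {s : Finset α} (hs : s.card = 5) (hfix : ∀ x ∈ s, g x = x) :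
    g = 1 := by
  obtain ⟨O, ⟨hO, hsO⟩, huniq⟩ := hA.2 s hs
  have hgO : g • O = O := huniq _ ⟨(MulAction.mem_stabilizer_set.1 hg O).2 hO, fun x hx => by
    rw [← hfix x hx]; exact Finset.smul_mem_smul_finset (hsO hx)⟩
  have hfixO : ∀ x ∈ O, g x = x := by
    intro x hx
    by_cases hxs : x ∈ s
    · exact hfix x hxs
    have hgx : g x ∈ O := by
      have := Finset.smul_mem_smul_finset (a := g) hx
      rwa [hgO] at this
    have hgxs : g x ∉ s := fun h => by
      have := g.injective (hfix _ h)
      exact hxs (this ▸ h)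
    have hcard : (O \ s).card = 1 := by
      rw [Finset.card_sdiff_of_subset hsO, hA.1 O hO, hs]
    exact Finset.card_le_one.1 hcard.le _ (Finset.mem_sdiff.2 ⟨hgx, hgxs⟩) _
      (Finset.mem_sdiff.2 ⟨hx, hxs⟩)
  obtain ⟨e, hOe, hN, -⟩ := exists_normal hα hA hO
  set h := e.permCongr g with hh
  have hl : ∀ i, h (Sum.inl i) = Sum.inl i := fun i => by
    have : e.symm (Sum.inl i) ∈ O := by
      rw [← Finset.mem_map' e.toEmbedding, hOe]; simp
    simp [hh, Equiv.permCongr_apply, hfixO _ this]
  have hr : ∀ x, ∃ y, h (Sum.inr x) = Sum.inr y := fun x => by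
    rcases hz : h (Sum.inr x) with i | y
    · exact absurd (h.injective (hz.trans (hl i).symm)) (by simp)
    · exact ⟨y, rfl⟩
  choose r hr using hr
  have hrsyn : ∀ i j, i ≠ j → ∀ x, r (syn (phi i j) x) = syn (phi i j) (r x) := by
    intro i j hij x
    refine (hN.1.partner_unique hij ?_ (hN.duads i j hij (r x))
      (fun e' => syn_ne (phi i j) x ?_))
    · have hb := hN.duads i j hij x
      have key : (({i, j}ᶜ : Finset (Fin 6)).disjSum {r x, r (syn (phi i j) x)}).map
          e.symm.toEmbedding =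
          g • (({i, j}ᶜ : Finset (Fin 6)).disjSum {x, syn (phi i j) x}).map e.symm.toEmbedding := by
        have : ({i, j}ᶜ : Finset (Fin 6)).disjSum {r x, r (syn (phi i j) x)} =
            (({i, j}ᶜ : Finset (Fin 6)).disjSum {x, syn (phi i j) x}).map h.toEmbedding := by
          ext p
          rw [Finset.mem_map_equiv]
          obtain ⟨q, rfl⟩ := h.surjective p
          rw [Equiv.symm_apply_apply]
          rcases q with q | q
          · rw [hl]; simp
          · rw [hr]
            have hinj : ∀ a b, r a = r b → a = b := fun a b hab =>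
              Sum.inr_injective (h.injective (by rw [hr, hr, hab]))
            simp only [Finset.inr_mem_disjSum, Finset.mem_insert, Finset.mem_singleton]
            exact ⟨fun h' => h'.imp (hinj _ _) (hinj _ _), fun h' => h'.imp (congrArg r) (congrArg r)⟩
        rw [this]
        simp only [Finset.map_eq_image, Finset.smul_finset_def, Finset.image_image]
        exact Finset.image_congr fun p _ => by simp [hh, Equiv.permCongr_apply]
      show _ ∈ A
      rw [key, MulAction.mem_stabilizer_set.1 hg]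
      exact hb
    · exact Sum.inr_injective (h.injective (by rw [hr, hr, e']))
  have hr0 : r 0 = 0 := by
    by_contra hne
    obtain ⟨i, j, i', j', hij, hij', h1, h2⟩ := moved _ hne
    exact h2 (by rw [← hrsyn i j hij, ← hrsyn i' j' hij', h1])
  have hrid : ∀ x, r x = x := fun x => by
    by_cases hx : x = 0
    · rw [hx, hr0]
    · obtain ⟨i, j, hij, hx'⟩ := reach x hx
      rw [← hx', hrsyn i j hij, hr0]
  ext a
  apply e.injective
  obtain ⟨p, rfl⟩ := e.symm.surjective a
  rcases p with i | x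
  · have := hl i
    simpa [hh, Equiv.permCongr_apply] using this
  · have := hr x
    rw [hrid] at this
    simpa [hh, Equiv.permCongr_apply] using this

/-- Any two S(5,6,12) are carried to one another. -/
theorem exists_iso {β : Type*} [Fintype β] [DecidableEq β] {A' : Set (Finset β)}
    (hα : Fintype.card α = 12) (hβ : Fintype.card β = 12) (hA : IsSteinerSystem 5 6 A)
    (hA' : IsSteinerSystem 5 6 A') :
    ∃ f : α ≃ β, ∀ b, b ∈ A ↔ b.map f.toEmbedding ∈ A' := by
  obtain ⟨O, hO⟩ := exists_block hα hA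
  obtain ⟨O', hO'⟩ := exists_block hβ hA'
  obtain ⟨e, -, -, he⟩ := exists_normal hα hA hO
  obtain ⟨e', -, -, he'⟩ := exists_normal hβ hA' hO'
  refine ⟨e.trans e'.symm, fun b => ?_⟩
  rw [he, he', Finset.map_map]
  congr! 2
  ext x
  simp

end CfsgLib.Steiner.Witt12
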